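import Groth.Agent.Lead.FibCat.Cart

/-! Representable morphisms of categories over a base. -/

set_option autoImplicit false
set_option backward.isDefEq.respectTransparency false
set_option backward.isDefEq.respectTransparency.types false

universe v₂ v₃ v₄ v₅ v₆ v₇ u₂ u₃ u₄ u₅ u₆ u₇ v u

open CategoryTheory CategoryTheory.Limits CategoryTheory.Functor FibCat

namespace Groth.Agent.LeadFibCat

variable {C : Type u} [Category.{v} C]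

section Lift

variable {𝒳 : BasedCategory.{v₂, u₂} C} {𝒴 : BasedCategory.{v₃, u₃} C} {𝒮 : BasedCategory.{v₄, u₄} C}
  {𝒲 : BasedCategory.{v₅, u₅} C} {F : 𝒳 ⥤ᵇ 𝒮} {G : 𝒴 ⥤ᵇ 𝒮}

/-- functor into a fibre product -/
def lift' (a : 𝒲 ⥤ᵇ 𝒳) (b : 𝒲 ⥤ᵇ 𝒴) (e : ∀ w, F.obj (a.obj w) ≅ G.obj (b.obj w))
    (hn : ∀ {w w' : 𝒲.obj} (g : w ⟶ w'),
      F.map (a.map g) ≫ (e w').hom = (e w).hom ≫ G.map (b.map g))
    (hv : ∀ w, Vert 𝒮.p (e w).hom) : 𝒲 ⥤ᵇ fp F G :=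
  fpLift a b (isoMk (F := BasedFunctor.comp a F) (G := BasedFunctor.comp b G) e (fun g => hn g) hv)

theorem lift'_obj (a : 𝒲 ⥤ᵇ 𝒳) (b : 𝒲 ⥤ᵇ 𝒴) (e : ∀ w, F.obj (a.obj w) ≅ G.obj (b.obj w))
    (hn : ∀ {w w' : 𝒲.obj} (g : w ⟶ w'),
      F.map (a.map g) ≫ (e w').hom = (e w).hom ≫ G.map (b.map g))
    (hv : ∀ w, Vert 𝒮.p (e w).hom) (w : 𝒲.obj) :
    ((lift' a b e hn hv).obj w).obj.iso.hom = (e w).hom := rfl

end Lift

theorem aux_cancel {A : Type u₂} [Category.{v₂} A] {a b c d e x : A} (α : a ≅ b) (g : b ⟶ c) (n : c ⟶ d)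
    (F : e ≅ d) (β : x ≅ e) :
    (α.inv ≫ (α.hom ≫ g ≫ n ≫ F.inv ≫ β.inv) ≫ β.hom) ≫ F.hom = g ≫ n := by
  simp

section Transport

variable {𝒳 : BasedCategory.{v₂, u₂} C} {𝒴 : BasedCategory.{v₃, u₃} C} {𝒲 : BasedCategory.{v₄, u₄} C}
  {𝒳' : BasedCategory.{v₅, u₅} C} {𝒴' : BasedCategory.{v₆, u₆} C} {𝒲' : BasedCategory.{v₇, u₇} C}

/-- fibre products are invariant under equivalences -/
theorem transport (G : 𝒲 ⥤ᵇ 𝒴) (f : 𝒳 ⥤ᵇ 𝒴) (G' : 𝒲' ⥤ᵇ 𝒴') (f' : 𝒳' ⥤ᵇ 𝒴')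
    (c : 𝒲' ⥤ᵇ 𝒲) (a : 𝒳' ⥤ᵇ 𝒳) (b : 𝒴' ⥤ᵇ 𝒴) (hc : IsEquivOver c) (ha : IsEquivOver a)
    (hb : IsEquivOver b) (α : BasedFunctor.comp G' b ≅ BasedFunctor.comp c G)
    (β : BasedFunctor.comp f' b ≅ BasedFunctor.comp a f) :
    ∃ Φ : fp G' f' ⥤ᵇ fp G f, IsEquivOver Φ := by
  obtain ⟨c1, c2, c3⟩ := equiv_props hc
  obtain ⟨a1, a2, a3⟩ := equiv_props ha
  obtain ⟨b1, b2, b3⟩ := equiv_props hb
  haveI : b.toFunctor.Faithful := ⟨fun {_ _ φ φ'} h => b2 φ φ' h⟩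
  haveI : b.toFunctor.Full := ⟨fun {_ _} => b1⟩
  let Φ : fp G' f' ⥤ᵇ fp G f :=
    lift' (BasedFunctor.comp (fpFst G' f') c) (BasedFunctor.comp (fpSnd G' f') a)
      (fun w => (app α w.obj.fst).symm ≪≫ b.toFunctor.mapIso w.obj.iso ≪≫ app β w.obj.snd)
      (fun {w w'} g => by
        have h1 := app_naturality α g.hom.fst
        have h2 := app_naturality β g.hom.snd
        have h3 := congrArg b.map g.hom.w
        rw [Functor.map_comp, Functor.map_comp] at h3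
        simp only [Iso.trans_hom, Iso.symm_hom, Functor.mapIso_hom, Category.assoc]
        rw [← cancel_epi (app α w.obj.fst).hom, ← Category.assoc, Iso.hom_inv_id_assoc]
        show ((app α w.obj.fst).hom ≫ G.map (c.map g.hom.fst)) ≫ _ = _
        rw [show (app α w.obj.fst).hom ≫ G.map (c.map g.hom.fst) = b.map (G'.map g.hom.fst) ≫ (app α w'.obj.fst).hom
          from h1.symm]
        simp only [Category.assoc, Iso.hom_inv_id_assoc]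
        rw [reassoc_of% h3]
        exact congrArg _ h2)
      (fun w => ((vert_app α w.obj.fst).symm).comp (((fp_vert w).map).comp (vert_app β w.obj.snd)))
  refine ⟨Φ, isEquivOver_mk Φ (fun {w w'} ψ => ?_) (fun {w w'} φ φ' h => ?_) (fun η => ?_)⟩
  · obtain ⟨p, hp⟩ := c1 ψ.hom.fst
    obtain ⟨q, hq⟩ := a1 ψ.hom.snd
    refine ⟨fpHom p q (b2 _ _ ?_), fp_ext hp hq⟩
    have h1 := app_naturality α p
    have h2 := app_naturality β q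
    have h3 : G.map ψ.hom.fst ≫ (app α w'.obj.fst).inv ≫ b.map w'.obj.iso.hom ≫ (app β w'.obj.snd).hom =
        ((app α w.obj.fst).inv ≫ b.map w.obj.iso.hom ≫ (app β w.obj.snd).hom) ≫ f.map ψ.hom.snd := ψ.hom.w
    rw [← hp, ← hq] at h3
    rw [Functor.map_comp, Functor.map_comp, ← cancel_mono (app β w'.obj.snd).hom]
    simp only [Category.assoc] at h3 ⊢
    rw [show b.map (f'.map q) ≫ (app β w'.obj.snd).hom = (app β w.obj.snd).hom ≫ f.map (a.map q) from h2]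
    rw [← cancel_epi (app α w.obj.fst).inv, ← h3]
    have h1' : (app α w.obj.fst).inv ≫ b.map (G'.map p) = G.map (c.map p) ≫ (app α w'.obj.fst).inv := by
      rw [Iso.inv_comp_eq, ← Category.assoc, Iso.eq_comp_inv]; exact h1
    exact (reassoc_of% h1') _
  · exact fp_ext (c2 _ _ (congrArg (fun m => m.hom.fst) h)) (a2 _ _ (congrArg (fun m => m.hom.snd) h))
  · obtain ⟨p, ep, hep⟩ := c3 η.obj.fst
    obtain ⟨q, eq', heq⟩ := a3 η.obj.snd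
    let i : b.obj (G'.obj p) ≅ b.obj (f'.obj q) :=
      app α p ≪≫ G.toFunctor.mapIso ep ≪≫ η.obj.iso ≪≫ (f.toFunctor.mapIso eq').symm ≪≫ (app β q).symm
    have hi : Vert 𝒴.p i.hom :=
      (vert_app α p).comp ((hep.map (F := G)).comp ((fp_vert η).comp
        ((Vert.symm (e := f.toFunctor.mapIso eq') (heq.map (F := f))).comp (vert_app β q).symm)))
    let i' : G'.obj p ≅ f'.obj q := b.toFunctor.preimageIso i
    have hi' : b.map i'.hom = i.hom := b.toFunctor.map_preimage i.hom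
    refine ⟨fpMk p q i' (Vert.reflect (F := b) (by rw [hi']; exact hi)), fpIsoMk ep eq' ?_, hep⟩
    show G.map ep.hom ≫ η.obj.iso.hom = ((app α p).inv ≫ b.map i'.hom ≫ (app β q).hom) ≫ f.map eq'.hom
    rw [hi']
    exact (aux_cancel (app α p) (G.map ep.hom) η.obj.iso.hom (f.toFunctor.mapIso eq') (app β q)).symm

end Transport

section Aux

variable {A : Type u₂} [Category.{v₂} A] {B : Type u₃} [Category.{v₃} B]

theorem aux_nat {a₁ a₂ b₁ b₂ s₁ s₂ : A} {a : a₁ ⟶ a₂} {b : b₁ ⟶ b₂} {q : s₁ ⟶ s₂} {i₁ : a₁ ⟶ s₁} {i₂ : a₂ ⟶ s₂}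
    {j₁ : b₁ ⟶ s₁} {j₂ : b₂ ⟶ s₂} {j₁' : s₁ ⟶ b₁} {j₂' : s₂ ⟶ b₂} (h₁ : j₁' ≫ j₁ = 𝟙 _) (h₂ : j₂ ≫ j₂' = 𝟙 _)
    (ha : a ≫ i₂ = i₁ ≫ q) (hb : b ≫ j₂ = j₁ ≫ q) : a ≫ i₂ ≫ j₂' = (i₁ ≫ j₁') ≫ b := by
  rw [reassoc_of% ha, Category.assoc]
  congr 1
  rw [← Category.comp_id b, ← h₂, reassoc_of% hb, reassoc_of% h₁]

theorem aux_base (g : A ⥤ B) {a₁ a₂ b₁ b₂ s₁ s₂ : A} {a : a₁ ⟶ a₂} {b : b₁ ⟶ b₂} {q : s₁ ⟶ s₂}
    {i₁ : a₁ ⟶ s₁} {i₂ : a₂ ⟶ s₂} {j₁ : b₁ ⟶ s₁} {j₂ : b₂ ⟶ s₂} {j₂' : s₂ ⟶ b₂}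
    (h₂ : j₂ ≫ j₂' = 𝟙 _) {e₁ : g.obj a₁ ⟶ g.obj b₁} {e₂ : g.obj a₂ ⟶ g.obj b₂}
    (ja : g.map i₁ = e₁ ≫ g.map j₁) (jb : g.map i₂ = e₂ ≫ g.map j₂)
    (ha : a ≫ i₂ = i₁ ≫ q) (hb : b ≫ j₂ = j₁ ≫ q) : g.map a ≫ e₂ = e₁ ≫ g.map b := by
  have h3 : g.map j₂ ≫ g.map j₂' = 𝟙 _ := by rw [← g.map_comp, h₂, g.map_id]
  have k : (g.map a ≫ e₂) ≫ g.map j₂ = (e₁ ≫ g.map b) ≫ g.map j₂ := by
    rw [Category.assoc, ← jb, ← g.map_comp, ha, g.map_comp, ja, Category.assoc, Category.assoc,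
      ← g.map_comp, ← g.map_comp, hb]
  have := congrArg (· ≫ g.map j₂') k
  simpa [h3] using this

end Aux

section Assoc

variable {𝒳 : BasedCategory.{v₂, u₂} C} {𝒴 : BasedCategory.{v₃, u₃} C} {𝒵 : BasedCategory.{v₄, u₄} C}
  {𝒲 : BasedCategory.{v₅, u₅} C} {𝒱 : BasedCategory.{v₆, u₆} C}

/-- pasting of fibre products -/
theorem paste (G : 𝒲 ⥤ᵇ 𝒵) (f : 𝒳 ⥤ᵇ 𝒴) (g : 𝒴 ⥤ᵇ 𝒵) (E : 𝒱 ⥤ᵇ fp G g) (hE : IsEquivOver E) :
    ∃ Φ : fp (BasedFunctor.comp E (fpSnd G g)) f ⥤ᵇ fp G (BasedFunctor.comp f g), IsEquivOver Φ := by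
  obtain ⟨e1, e2, e3⟩ := equiv_props hE
  let H := BasedFunctor.comp E (fpSnd G g)
  let Φ : fp H f ⥤ᵇ fp G (BasedFunctor.comp f g) :=
    lift' (BasedFunctor.comp (fpFst H f) (BasedFunctor.comp E (fpFst G g))) (fpSnd H f)
      (fun w => (E.obj w.obj.fst).obj.iso ≪≫ g.toFunctor.mapIso w.obj.iso)
      (fun {w w'} φ => by
        have h1 := (E.map φ.hom.fst).hom.w
        have h3 := congrArg g.map φ.hom.w
        rw [Functor.map_comp, Functor.map_comp] at h3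
        simp only [Iso.trans_hom, Functor.mapIso_hom, Category.assoc]
        show G.map (E.map φ.hom.fst).hom.fst ≫ (E.obj w'.obj.fst).obj.iso.hom ≫ g.map w'.obj.iso.hom = _
        rw [reassoc_of% h1]
        exact congrArg _ h3)
      (fun w => (fp_vert (E.obj w.obj.fst)).comp ((fp_vert w).map))
  refine ⟨Φ, isEquivOver_mk Φ (fun {w w'} ψ => ?_) (fun {w w'} φ φ' h => ?_) (fun η => ?_)⟩
  · let t : (E.obj w.obj.fst).obj.snd ⟶ (E.obj w'.obj.fst).obj.snd :=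
      w.obj.iso.hom ≫ f.map ψ.hom.snd ≫ w'.obj.iso.inv
    have hw : G.map ψ.hom.fst ≫ (E.obj w'.obj.fst).obj.iso.hom =
        (E.obj w.obj.fst).obj.iso.hom ≫ g.map t := by
      have h := ψ.hom.w
      change G.map ψ.hom.fst ≫ (E.obj w'.obj.fst).obj.iso.hom ≫ g.map w'.obj.iso.hom =
        ((E.obj w.obj.fst).obj.iso.hom ≫ g.map w.obj.iso.hom) ≫ g.map (f.map ψ.hom.snd) at h
      rw [← cancel_mono (g.map w'.obj.iso.hom), Category.assoc, h, Category.assoc, Category.assoc,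
        ← Functor.map_comp, ← Functor.map_comp]
      simp [t]
    obtain ⟨p, hp⟩ := e1 (fpHom (x := E.obj w.obj.fst) (y := E.obj w'.obj.fst) ψ.hom.fst t hw)
    refine ⟨fpHom p ψ.hom.snd ?_, fp_ext (congrArg (fun m => m.hom.fst) hp) rfl⟩
    show (E.map p).hom.snd ≫ w'.obj.iso.hom = w.obj.iso.hom ≫ f.map ψ.hom.snd
    rw [show (E.map p).hom.snd = t from congrArg (fun m => m.hom.snd) hp]
    simp [t]
  · have h1 : (E.map φ.hom.fst).hom.fst = (E.map φ'.hom.fst).hom.fst := congrArg (fun m => m.hom.fst) h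
    have h2 : φ.hom.snd = φ'.hom.snd := congrArg (fun m => m.hom.snd) h
    refine fp_ext (e2 _ _ (fp_ext h1 ?_)) h2
    have hw := φ.hom.w
    have hw' := φ'.hom.w
    change (E.map φ.hom.fst).hom.snd ≫ w'.obj.iso.hom = w.obj.iso.hom ≫ f.map φ.hom.snd at hw
    change (E.map φ'.hom.fst).hom.snd ≫ w'.obj.iso.hom = w.obj.iso.hom ≫ f.map φ'.hom.snd at hw'
    rw [← cancel_mono w'.obj.iso.hom, hw, hw', h2]
  · let η₀ : (fp G g).obj := fpMk η.obj.fst (f.obj η.obj.snd) η.obj.iso (fp_vert η)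
    obtain ⟨v, e, he⟩ := e3 η₀
    have hes : Vert 𝒴.p e.hom.hom.snd := Vert.map (F := fpSnd G g) he
    refine ⟨fpMk v η.obj.snd
      ((CategoricalPullback.π₂ _ _).mapIso ((fpProp G g).ι.mapIso e)) hes,
      fpIsoMk ((CategoricalPullback.π₁ _ _).mapIso ((fpProp G g).ι.mapIso e)) (Iso.refl η.obj.snd) ?_, he⟩
    show G.map e.hom.hom.fst ≫ η.obj.iso.hom = ((E.obj v).obj.iso.hom ≫ g.map e.hom.hom.snd) ≫ g.map (f.map (𝟙 _))
    rw [f.toFunctor.map_id]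
    exact e.hom.hom.w.trans ((Category.comp_id _).symm.trans (congrArg (fun m => _ ≫ m) (g.toFunctor.map_id _).symm))

/-- base change of the first projection -/
theorem paste_fst (G : 𝒲 ⥤ᵇ 𝒱) (g : 𝒱 ⥤ᵇ 𝒴) (f : 𝒳 ⥤ᵇ 𝒴) :
    ∃ Φ : fp (BasedFunctor.comp G g) f ⥤ᵇ fp G (fpFst g f), IsEquivOver Φ := by
  let b : fp (BasedFunctor.comp G g) f ⥤ᵇ fp g f :=
    lift' (BasedFunctor.comp (fpFst _ f) G) (fpSnd _ f) (fun w => w.obj.iso) (fun φ => φ.hom.w) (fun w => fp_vert w)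
  let Φ : fp (BasedFunctor.comp G g) f ⥤ᵇ fp G (fpFst g f) :=
    lift' (fpFst _ f) b (fun w => Iso.refl _)
      (fun φ => by exact (Category.comp_id _).trans (Category.id_comp _).symm) (fun w => Vert.id _)
  refine ⟨Φ, isEquivOver_mk Φ (fun {w w'} ψ => ?_) (fun {w w'} φ φ' h => ?_) (fun η => ?_)⟩
  · have h : G.map ψ.hom.fst ≫ 𝟙 _ = 𝟙 _ ≫ ψ.hom.snd.hom.fst := ψ.hom.w
    rw [Category.id_comp, Category.comp_id] at h
    refine ⟨fpHom ψ.hom.fst ψ.hom.snd.hom.snd ?_, fp_ext rfl (fp_ext h rfl)⟩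
    show g.map (G.map ψ.hom.fst) ≫ w'.obj.iso.hom = w.obj.iso.hom ≫ f.map ψ.hom.snd.hom.snd
    rw [h]
    exact ψ.hom.snd.hom.w
  · exact fp_ext (congrArg (fun m => m.hom.fst) h) (congrArg (fun m => m.hom.snd.hom.snd) h)
  · refine ⟨fpMk η.obj.fst η.obj.snd.obj.snd (g.toFunctor.mapIso η.obj.iso ≪≫ η.obj.snd.obj.iso)
      ((fp_vert η).map.comp (fp_vert η.obj.snd)),
      fpIsoMk (Iso.refl η.obj.fst) (fpIsoMk η.obj.iso (Iso.refl η.obj.snd.obj.snd) ?_) ?_, Vert.id (p := 𝒲.p) _⟩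
    · show g.map η.obj.iso.hom ≫ η.obj.snd.obj.iso.hom =
        (g.map η.obj.iso.hom ≫ η.obj.snd.obj.iso.hom) ≫ f.map (𝟙 _)
      rw [Functor.map_id]; exact (Category.comp_id _).symm
    · show G.map (𝟙 _) ≫ η.obj.iso.hom = 𝟙 _ ≫ η.obj.iso.hom
      rw [Functor.map_id]

end Assoc

section Rep

variable {𝒳 : BasedCategory.{v, max u v} C} {𝒴 : BasedCategory.{v, max u v} C} {𝒵 : BasedCategory.{v, max u v} C}

theorem isRepresentable1_comp (f : 𝒳 ⥤ᵇ 𝒴) (g : 𝒴 ⥤ᵇ 𝒵) (hf : IsRepresentable1 f) (hg : IsRepresentable1 g) :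
    IsRepresentable1 (BasedFunctor.comp f g) := by
  intro U G
  obtain ⟨V, E₀, hE₀⟩ := hg U G
  obtain ⟨E, hE, -⟩ := equiv_inv hE₀
  obtain ⟨Φ, hΦ⟩ := paste G f g E hE
  exact (isRepresentable_of_equiv hΦ).1 (hf V _)

theorem isRepresentable1_fpFst (f : 𝒳 ⥤ᵇ 𝒴) (g : 𝒵 ⥤ᵇ 𝒴) (hf : IsRepresentable1 f) :
    IsRepresentable1 (fpFst g f) := by
  intro U G
  obtain ⟨Φ, hΦ⟩ := paste_fst G g f
  exact (isRepresentable_of_equiv hΦ).1 (hf U _)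

theorem equiv_id (𝒲 : BasedCategory.{v₂, u₂} C) : IsEquivOver (BasedFunctor.id 𝒲) :=
  isEquivOver_mk _ (fun ψ => ⟨ψ, rfl⟩) (fun _ _ h => h) (fun η => ⟨η, Iso.refl η, Vert.id η⟩)

theorem isRepresentable1_congr {𝒳' 𝒴' : BasedCategory.{v, max u v} C} (f : 𝒳 ⥤ᵇ 𝒴) (f' : 𝒳' ⥤ᵇ 𝒴')
    (a : 𝒳' ⥤ᵇ 𝒳) (b : 𝒴' ⥤ᵇ 𝒴) (ha : IsEquivOver a) (hb : IsEquivOver b)
    (e : BasedFunctor.comp f' b ≅ BasedFunctor.comp a f) : IsRepresentable1 f ↔ IsRepresentable1 f' := by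
  constructor
  · intro h U G
    obtain ⟨Φ, hΦ⟩ := transport (BasedFunctor.comp G b) f G f' (BasedFunctor.id _) a b (equiv_id _) ha hb (Iso.refl _) e
    exact (isRepresentable_of_equiv hΦ).2 (h U _)
  · intro h U G
    obtain ⟨b', -, ⟨c⟩⟩ := equiv_inv hb
    let α : BasedFunctor.comp (BasedFunctor.comp G b') b ≅ BasedFunctor.comp (BasedFunctor.id _) G :=
      isoMk (fun u => app c (G.obj u)) (fun φ => app_naturality c (G.map φ)) (fun u => vert_app c (G.obj u))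
    obtain ⟨Φ, hΦ⟩ := transport G f (BasedFunctor.comp G b') f' (BasedFunctor.id _) a b (equiv_id _) ha hb α e
    exact (isRepresentable_of_equiv hΦ).1 (h U _)

end Rep

section Compare

variable {𝒳 : BasedCategory.{v₂, u₂} C} {𝒴 : BasedCategory.{v₃, u₃} C} {𝒵 : BasedCategory.{v₄, u₄} C}
  {𝒲 : BasedCategory.{v₅, u₅} C} {𝒱 : BasedCategory.{v₆, u₆} C}

/-- base change of a morphism through the graph -/
theorem graph (f : 𝒳 ⥤ᵇ 𝒴) (g : 𝒴 ⥤ᵇ 𝒵) (H : 𝒲 ⥤ᵇ 𝒴)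
    (E : 𝒱 ⥤ᵇ fp (BasedFunctor.comp H g) (BasedFunctor.comp f g)) (hE : IsEquivOver E) :
    ∃ (K : 𝒱 ⥤ᵇ fp g g) (Φ : fp K (diag g) ⥤ᵇ fp H f), IsEquivOver Φ := by
  obtain ⟨e1, e2, e3⟩ := equiv_props hE
  let y₁ : 𝒱 ⥤ᵇ 𝒴 := BasedFunctor.comp E (BasedFunctor.comp (fpFst _ _) H)
  let y₂ : 𝒱 ⥤ᵇ 𝒴 := BasedFunctor.comp E (BasedFunctor.comp (fpSnd _ _) f)
  let K : 𝒱 ⥤ᵇ fp g g :=
    lift' y₁ y₂ (fun v => (E.obj v).obj.iso) (fun φ => (E.map φ).hom.w) (fun v => fp_vert (E.obj v))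
  let θ : ∀ w : (fp K (diag g)).obj,
      H.obj (E.obj w.obj.fst).obj.fst ≅ f.obj (E.obj w.obj.fst).obj.snd := fun w =>
    (CategoricalPullback.π₁ _ _).mapIso ((fpProp g g).ι.mapIso w.obj.iso) ≪≫
      ((CategoricalPullback.π₂ _ _).mapIso ((fpProp g g).ι.mapIso w.obj.iso)).symm
  have hwvert : ∀ w : (fp K (diag g)).obj, Vert 𝒴.p w.obj.iso.hom.hom.fst ∧ Vert 𝒴.p w.obj.iso.hom.hom.snd :=
    fun w => ⟨(fp_vert w).map (F := fpFst g g), (fp_vert w).map (F := fpSnd g g)⟩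
  have hnat : ∀ {w w' : (fp K (diag g)).obj} (φ : w ⟶ w'),
      H.map (E.map φ.hom.fst).hom.fst ≫ (θ w').hom = (θ w).hom ≫ f.map (E.map φ.hom.fst).hom.snd := by
    intro w w' φ
    exact aux_nat (congrArg (fun m => m.hom.snd) w.obj.iso.inv_hom_id)
      (congrArg (fun m => m.hom.snd) w'.obj.iso.hom_inv_id)
      (congrArg (fun m => m.hom.fst) φ.hom.w : H.map (E.map φ.hom.fst).hom.fst ≫ w'.obj.iso.hom.hom.fst = _)
      (congrArg (fun m => m.hom.snd) φ.hom.w : f.map (E.map φ.hom.fst).hom.snd ≫ w'.obj.iso.hom.hom.snd = _)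
  let Φ : fp K (diag g) ⥤ᵇ fp H f :=
    lift' (BasedFunctor.comp (fpFst K (diag g)) (BasedFunctor.comp E (fpFst _ _)))
      (BasedFunctor.comp (fpFst K (diag g)) (BasedFunctor.comp E (fpSnd _ _))) θ hnat
      (fun w => (hwvert w).1.comp ((Vert.symm (e := (CategoricalPullback.π₂ _ _).mapIso ((fpProp g g).ι.mapIso w.obj.iso)) (hwvert w).2)))
  refine ⟨K, Φ, isEquivOver_mk Φ (fun {w w'} ψ => ?_) (fun {w w'} φ φ' h => ?_) (fun η => ?_)⟩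
  · have hw : H.map ψ.hom.fst ≫ (θ w').hom = (θ w).hom ≫ f.map ψ.hom.snd := ψ.hom.w
    change H.map ψ.hom.fst ≫ w'.obj.iso.hom.hom.fst ≫ w'.obj.iso.inv.hom.snd =
      (w.obj.iso.hom.hom.fst ≫ w.obj.iso.inv.hom.snd) ≫ f.map ψ.hom.snd at hw
    let q : w.obj.snd ⟶ w'.obj.snd := w.obj.iso.inv.hom.snd ≫ f.map ψ.hom.snd ≫ w'.obj.iso.hom.hom.snd
    have i1 : w'.obj.iso.inv.hom.snd ≫ w'.obj.iso.hom.hom.snd = 𝟙 _ :=
      congrArg (fun m => m.hom.snd) w'.obj.iso.inv_hom_id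
    have i2 : w.obj.iso.hom.hom.snd ≫ w.obj.iso.inv.hom.snd = 𝟙 _ :=
      congrArg (fun m => m.hom.snd) w.obj.iso.hom_inv_id
    have ha : H.map ψ.hom.fst ≫ w'.obj.iso.hom.hom.fst = w.obj.iso.hom.hom.fst ≫ q := by
      have := congrArg (fun m => m ≫ w'.obj.iso.hom.hom.snd) hw
      simp only [Category.assoc, i1] at this
      exact ((Category.comp_id _).symm.trans (Category.assoc _ _ _)).trans this
    have hb : f.map ψ.hom.snd ≫ w'.obj.iso.hom.hom.snd = w.obj.iso.hom.hom.snd ≫ q := by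
      simp only [q]
      rw [← Category.assoc (w.obj.iso.hom.hom.snd), i2]
      exact (Category.id_comp _).symm
    have hg : g.map (H.map ψ.hom.fst) ≫ (E.obj w'.obj.fst).obj.iso.hom =
        (E.obj w.obj.fst).obj.iso.hom ≫ g.map (f.map ψ.hom.snd) := by
      exact aux_base g.toFunctor (congrArg (fun m => m.hom.snd) w'.obj.iso.hom_inv_id)
        ((Category.comp_id _).symm.trans w.obj.iso.hom.hom.w)
        ((Category.comp_id _).symm.trans w'.obj.iso.hom.hom.w) ha hb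
    obtain ⟨p, hp⟩ := e1 (fpHom (x := E.obj w.obj.fst) (y := E.obj w'.obj.fst) ψ.hom.fst ψ.hom.snd hg)
    refine ⟨fpHom p q (fp_ext ?_ ?_), fp_ext (congrArg (fun m => m.hom.fst) hp) (congrArg (fun m => m.hom.snd) hp)⟩
    · show H.map (E.map p).hom.fst ≫ w'.obj.iso.hom.hom.fst = w.obj.iso.hom.hom.fst ≫ q
      rw [hp]; exact ha
    · show f.map (E.map p).hom.snd ≫ w'.obj.iso.hom.hom.snd = w.obj.iso.hom.hom.snd ≫ q
      rw [hp]; exact hb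
  · have h1 : φ.hom.fst = φ'.hom.fst :=
      e2 _ _ (fp_ext (congrArg (fun m => m.hom.fst) h) (congrArg (fun m => m.hom.snd) h))
    refine fp_ext h1 ?_
    have hw : H.map (E.map φ.hom.fst).hom.fst ≫ w'.obj.iso.hom.hom.fst = w.obj.iso.hom.hom.fst ≫ φ.hom.snd :=
      congrArg (fun m => m.hom.fst) φ.hom.w
    have hw' : H.map (E.map φ'.hom.fst).hom.fst ≫ w'.obj.iso.hom.hom.fst = w.obj.iso.hom.hom.fst ≫ φ'.hom.snd :=
      congrArg (fun m => m.hom.fst) φ'.hom.w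
    rw [h1, hw'] at hw
    have i : w.obj.iso.inv.hom.fst ≫ w.obj.iso.hom.hom.fst = 𝟙 _ :=
      congrArg (fun m => m.hom.fst) w.obj.iso.inv_hom_id
    have := congrArg (fun m => w.obj.iso.inv.hom.fst ≫ m) hw
    simp only [← Category.assoc, i] at this
    exact ((Category.id_comp _).symm.trans this.symm).trans (Category.id_comp _)
  · let η₀ : (fp (BasedFunctor.comp H g) (BasedFunctor.comp f g)).obj :=
      fpMk η.obj.fst η.obj.snd (g.toFunctor.mapIso η.obj.iso) (fp_vert η).map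
    obtain ⟨v, e, he⟩ := e3 η₀
    let ea : (E.obj v).obj.fst ≅ η.obj.fst := (CategoricalPullback.π₁ _ _).mapIso ((fpProp _ _).ι.mapIso e)
    let eb : (E.obj v).obj.snd ≅ η.obj.snd := (CategoricalPullback.π₂ _ _).mapIso ((fpProp _ _).ι.mapIso e)
    let s : 𝒴.obj := f.obj η.obj.snd
    let i : K.obj v ≅ (diag g).obj s :=
      fpIsoMk (H.toFunctor.mapIso ea ≪≫ η.obj.iso) (f.toFunctor.mapIso eb) (by
        show g.map (H.map ea.hom ≫ η.obj.iso.hom) ≫ 𝟙 _ = (E.obj v).obj.iso.hom ≫ g.map (f.map eb.hom)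
        rw [Category.comp_id, Functor.map_comp]
        exact e.hom.hom.w)
    have hea : Vert 𝒲.p ea.hom := Vert.map (F := fpFst _ _) he
    have hi : Vert (fp g g).p i.hom := (hea.map (F := H)).comp (fp_vert η)
    refine ⟨fpMk v s i hi, fpIsoMk ea eb ?_, he⟩
    show H.map ea.hom ≫ η.obj.iso.hom =
      ((H.map ea.hom ≫ η.obj.iso.hom) ≫ f.map eb.inv) ≫ f.map eb.hom
    simp only [Category.assoc, ← Functor.map_comp, Iso.inv_hom_id, Functor.map_id]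
    exact congrArg _ (Category.comp_id _).symm

theorem isRepresentable1_of_diag {𝒳 𝒴 𝒵 : BasedCategory.{v, max u v} C} (f : 𝒳 ⥤ᵇ 𝒴) (g : 𝒴 ⥤ᵇ 𝒵)
    (hgf : IsRepresentable1 (BasedFunctor.comp f g)) (hΔ : IsRepresentable1 (diag g)) : IsRepresentable1 f := by
  intro U H
  obtain ⟨V, E₀, hE₀⟩ := hgf U (BasedFunctor.comp H g)
  obtain ⟨E, hE, -⟩ := equiv_inv hE₀
  obtain ⟨K, Φ, hΦ⟩ := graph f g H E hE
  exact (isRepresentable_of_equiv hΦ).1 (hΔ V K)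

end Compare

end Groth.Agent.LeadFibCat
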