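import Groth.Agent.Lead.FibCat.Fibre
import Groth.Agent.Lead.FibCat.Rep

/-! Categories fibred in setoids, wide subcategory of cartesian morphisms, cartesian morphisms and equivalences. -/

set_option autoImplicit false
set_option backward.isDefEq.respectTransparency false
set_option backward.isDefEq.respectTransparency.types false

universe v₂ v₃ v₄ u₂ u₃ u₄ v u

open CategoryTheory CategoryTheory.Limits CategoryTheory.Functor FibCat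

namespace Groth.Agent.LeadFibCat

variable {C : Type u} [Category.{v} C]

/-- parallel vertical morphisms coincide -/
def Thin {A : Type u₂} [Category.{v₂} A] (p : A ⥤ C) : Prop :=
  ∀ {a b : A} (φ φ' : a ⟶ b), Vert p φ → Vert p φ' → φ = φ'

theorem thin_of {A : Type u₂} [Category.{v₂} A] {p : A ⥤ C} (h : ∀ U : C, Quiver.IsThin (p.Fiber U)) : Thin p := by
  intro a b φ φ' hφ hφ'
  haveI := h (p.obj a)
  let x : p.Fiber (p.obj a) := Subtype.mk a rfl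
  let y : p.Fiber (p.obj a) := Subtype.mk b hφ.1.symm
  exact congrArg Subtype.val (Subsingleton.elim (α := x ⟶ y) ⟨φ, hφ.lift rfl⟩ ⟨φ', hφ'.lift rfl⟩)

theorem thin_mk {A : Type u₂} [Category.{v₂} A] {p : A ⥤ C} (h : Thin p) (U : C) : Quiver.IsThin (p.Fiber U) :=
  fun x y => ⟨fun f g => Subtype.ext (h f.1 g.1 (Vert.of_lift f.2) (Vert.of_lift g.2))⟩

section

variable {𝒳 : BasedCategory.{v₂, u₂} C} {𝒴 : BasedCategory.{v₃, u₃} C} {𝒮 : BasedCategory.{v₄, u₄} C}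

theorem isFibSetoid_of_inertia (h𝒳 : IsFibGrpd 𝒳.p) (h : IsEquivOver (inertiaToBase (toSelf 𝒳))) :
    IsFibSetoid 𝒳.p := by
  refine ⟨h𝒳, thin_mk fun {a b} φ φ' hφ hφ' => ?_⟩
  haveI := isIso_of_vert h𝒳 hφ'
  have hv : Vert 𝒳.p (φ ≫ inv φ') := hφ.comp (hφ'.of_inv (IsIso.hom_inv_id φ'))
  haveI := isIso_of_vert h𝒳 hv
  obtain ⟨h1, -, -⟩ := equiv_props h
  let z : InertiaObj (toSelf 𝒳) := ⟨a, asIso (φ ≫ inv φ'), hv.map_eq.trans (eqToHom_refl _ _)⟩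
  let z₀ : InertiaObj (toSelf 𝒳) := ⟨a, Iso.refl a, 𝒳.p.map_id a⟩
  obtain ⟨m, hm⟩ := h1 (a := z₀) (b := z) (𝟙 a)
  have hc := m.comm
  rw [show m.hom = 𝟙 a from hm] at hc
  have : φ ≫ inv φ' = 𝟙 a := (Category.id_comp _).symm.trans (hc.symm.trans (Category.id_comp _))
  rw [← Category.comp_id φ, ← IsIso.inv_hom_id φ', ← Category.assoc, this, Category.id_comp]

theorem isFibSetoid_of_equiv {G : 𝒳 ⥤ᵇ 𝒴} (hG : IsEquivOver G) (h𝒴 : IsFibGrpd 𝒴.p) (ht : Thin 𝒴.p) :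
    IsFibSetoid 𝒳.p :=
  ⟨isFibGrpd_of_equiv' hG h𝒴, thin_mk fun φ φ' hφ hφ' => (equiv_props hG).2.1 _ _ (ht _ _ hφ.map hφ'.map)⟩

theorem thin_of_isFibSet {A : Type u₂} [Category.{v₂} A] {p : A ⥤ C} (h : IsFibSet p) : Thin p :=
  thin_of fun U x y => (h.2 U).subsingleton x y

theorem isFibSetoid_fp (f : 𝒳 ⥤ᵇ 𝒮) (g : 𝒴 ⥤ᵇ 𝒮) (h𝒳 : IsFibGrpd 𝒳.p) (h𝒴 : IsFibGrpd 𝒴.p) (ht : Thin 𝒴.p)
    (h𝒮 : IsFibGrpd 𝒮.p) (hf : ∀ {a b : 𝒳.obj} (φ φ' : a ⟶ b), f.map φ = f.map φ' → φ = φ') :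
    IsFibSetoid (fp f g).p := by
  refine ⟨isFibGrpd_fp h𝒳 h𝒴 h𝒮, thin_mk fun {a b} φ φ' hφ hφ' => ?_⟩
  have hs : φ.hom.snd = φ'.hom.snd := ht _ _ (hφ.map (F := fpSnd f g)) (hφ'.map (F := fpSnd f g))
  refine fp_ext (hf _ _ ?_) hs
  rw [← cancel_mono b.obj.iso.hom, φ.hom.w, φ'.hom.w, hs]

theorem fiberwise_iso (ht : Thin 𝒴.p) (h𝒴 : IsFibGrpd 𝒴.p) (f g : 𝒳 ⥤ᵇ 𝒴)
    (hfg : ∀ x : 𝒳.obj, ∃ e : f.obj x ≅ g.obj x, Vert 𝒴.p e.hom) : Nonempty (Unique (f ≅ g)) := by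
  choose e he using hfg
  have hn : ∀ {a b : 𝒳.obj} (φ : a ⟶ b), f.map φ ≫ (e b).hom = (e a).hom ≫ g.map φ := by
    intro a b φ
    obtain ⟨χ, h1, h2⟩ := sc_exists (h𝒴.isStronglyCartesian (g.map φ)) (f.map φ ≫ (e b).hom)
      (eqToHom ((pobj f a).trans (pobj g a).symm))
      (by rw [Functor.map_comp, pmap, pmap, (he b).map_eq]; simp)
    rw [← h2, ht χ (e a).hom ⟨_, h1⟩ (he a)]
  refine ⟨⟨⟨isoMk e hn he⟩, fun α => ?_⟩⟩
  apply Iso.ext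
  apply BasedNatTrans.ext
  apply NatTrans.ext
  funext a
  exact ht (app α a).hom (e a).hom (vert_app α a) (he a)

end

theorem vert_iso_of_fibre {A : Type u₂} [Category.{v₂} A] {p : A ⥤ C} {U : C} {x y : p.Fiber U} (e : x ≅ y) :
    ∃ i : x.1 ≅ y.1, Vert p i.hom :=
  ⟨Fiber.fiberInclusion.mapIso e, Vert.of_lift e.hom.2⟩

section Setoid

variable {𝒳 : BasedCategory.{v, max u v} C}

/-- vertical isomorphism as an equivalence relation -/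
def vertSetoid (𝒳 : BasedCategory.{v₂, u₂} C) : Setoid 𝒳.obj where
  r a b := ∃ e : a ≅ b, Vert 𝒳.p e.hom
  iseqv := ⟨fun a => ⟨Iso.refl a, Vert.id a⟩, fun ⟨e, he⟩ => ⟨e.symm, he.symm⟩,
    fun ⟨e, he⟩ ⟨e', he'⟩ => ⟨e ≪≫ e', he.comp he'⟩⟩

theorem exists_isFibSet (h : IsFibSetoid 𝒳.p) :
    ∃ (𝒴 : BasedCategory.{v, max u v} C) (F : 𝒳 ⥤ᵇ 𝒴), IsFibSet 𝒴.p ∧ IsEquivOver F := by
  let s := vertSetoid 𝒳
  let out : Quotient s → 𝒳.obj := Quotient.out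
  let 𝒴 : BasedCategory.{v, max u v} C :=
    BasedCategory.ofFunctor (inducedFunctor out ⋙ 𝒳.p)
  let I : 𝒴 ⥤ᵇ 𝒳 := { toFunctor := inducedFunctor out, w := rfl }
  have hI : IsEquivOver I := by
    refine isEquivOver_mk I (fun ψ => ⟨InducedCategory.homMk ψ, rfl⟩) (fun φ φ' e => InducedCategory.hom_ext e)
      fun η => ?_
    obtain ⟨e, he⟩ := Quotient.mk_out (s := s) η
    exact ⟨Quotient.mk s η, e, he⟩
  obtain ⟨F, hF, -⟩ := equiv_inv hI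
  refine ⟨𝒴, F, ⟨isFibGrpd_of_equiv' hI h.1, fun U => ?_⟩, hF⟩
  have ht : Thin 𝒴.p := fun φ φ' hφ hφ' => InducedCategory.hom_ext (thin_of h.2 φ.hom φ'.hom hφ hφ')
  refine { subsingleton := thin_mk ht U, eq_of_hom := fun {x y} f => ?_ }
  have hv0 : Vert 𝒴.p f.1 := Vert.of_lift (U := U) (φ := f.1) f.2
  have hv : Vert 𝒳.p f.1.hom := hv0
  haveI := isIso_of_vert h.1 hv
  refine Subtype.ext ?_
  have : (s.r (out x.1) (out y.1)) := ⟨asIso f.1.hom, hv⟩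
  have h2 := Quotient.sound (s := s) this
  rw [Quotient.out_eq, Quotient.out_eq] at h2
  exact h2

end Setoid

section CartSub

variable {A : Type u₂} [Category.{v₂} A] (p : A ⥤ C)

theorem isFibGrpd_cartSub [p.IsFibered] : IsFibGrpd (cartSubProj p) := by
  refine isFibGrpd_mk (fun {x V} f => ?_) (fun {y x} φ => ?_)
  · obtain ⟨y, φ, e, he, hs⟩ := exists_sc (p := p) inferInstance (x := x.obj) f
    exact ⟨⟨y⟩, ⟨φ, hs⟩, e, he⟩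
  · have hφ : p.IsStronglyCartesian (p.map φ.1) φ.1 := φ.2
    refine sc_mk φ (fun {z} ψ g hg => ?_) (fun χ χ' e1 e2 => ?_)
    · obtain ⟨χ, h1, h2⟩ := sc_exists hφ ψ.1 g hg
      haveI := hφ
      haveI : p.IsStronglyCartesian (p.map χ ≫ p.map φ.1) (χ ≫ φ.1) := by
        rw [← p.map_comp, h2]; exact ψ.2
      exact ⟨⟨χ, IsStronglyCartesian.of_comp (p := p) (g := p.map φ.1) (ψ := φ.1)⟩, h1, by ext; exact h2⟩
    · ext; exact sc_ext hφ e1 (congrArg (fun m => m.1) e2)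

end CartSub

section Cart

variable {𝒳 : BasedCategory.{v₂, u₂} C} {𝒴 : BasedCategory.{v₃, u₃} C}

theorem cartesian_iff_of_equiv {F : 𝒳 ⥤ᵇ 𝒴} (hF : IsEquivOver F) {a b : 𝒳.obj} (φ : a ⟶ b) :
    𝒴.p.IsCartesian (𝒳.p.map φ) (F.map φ) ↔ 𝒳.p.IsCartesian (𝒳.p.map φ) φ := by
  obtain ⟨h1, h2, h3⟩ := equiv_props hF
  constructor
  · intro h
    constructor
    intro z ψ hψ
    haveI : 𝒴.p.IsHomLift (𝒳.p.map φ) (F.map ψ) := inferInstance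
    obtain ⟨χ', ⟨hχ, hfac⟩, huniq⟩ := h.universal_property (F.map ψ)
    obtain ⟨χ, rfl⟩ := h1 χ'
    refine ⟨χ, ⟨(BasedFunctor.isHomLift_iff F _ _).1 hχ, h2 _ _ (by rw [Functor.map_comp, hfac])⟩, fun τ ⟨hτ, hτf⟩ => ?_⟩
    exact h2 _ _ (huniq (F.map τ) ⟨inferInstance, by rw [← Functor.map_comp, hτf]⟩)
  · intro h
    constructor
    intro η ψ hψ
    obtain ⟨z, e, he⟩ := h3 η
    have hη : 𝒴.p.obj (F.obj z) = 𝒳.p.obj a := he.1.trans (IsHomLift.domain_eq 𝒴.p (𝒳.p.map φ) ψ)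
    haveI := he.lift hη
    obtain ⟨ψ', hψ'⟩ := h1 (e.hom ≫ ψ)
    haveI : 𝒳.p.IsHomLift (𝒳.p.map φ) ψ' := (BasedFunctor.isHomLift_iff F _ _).1 (by rw [hψ']; infer_instance)
    obtain ⟨χ, ⟨hχ, hfac⟩, huniq⟩ := h.universal_property ψ'
    haveI : 𝒴.p.IsHomLift (𝟙 (𝒳.p.obj a)) e.inv := (Vert.symm he).lift (IsHomLift.domain_eq 𝒴.p (𝒳.p.map φ) ψ)
    refine ⟨e.inv ≫ F.map χ, ⟨inferInstance, by rw [Category.assoc, ← Functor.map_comp, hfac, hψ', Iso.inv_hom_id_assoc]⟩,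
      fun τ ⟨hτ, hτf⟩ => ?_⟩
    obtain ⟨τ', hτ'⟩ := h1 (e.hom ≫ τ)
    have : τ' = χ := huniq τ' ⟨(BasedFunctor.isHomLift_iff F _ _).1 (by rw [hτ']; infer_instance),
      h2 _ _ (by rw [Functor.map_comp, hτ', Category.assoc, hτf, hψ'])⟩
    rw [← this, hτ', Iso.inv_hom_id_assoc]

end Cart

end Groth.Agent.LeadFibCat
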