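import Groth.Agent.Lead.FibCat.Rep
import Mathlib.CategoryTheory.Limits.Shapes.BinaryProducts
import Mathlib.CategoryTheory.Limits.Shapes.Pullback.HasPullback

/-! The diagonal and representability. -/

set_option autoImplicit false
set_option backward.isDefEq.respectTransparency false
set_option backward.isDefEq.respectTransparency.types false

universe v u

open CategoryTheory CategoryTheory.Limits CategoryTheory.Functor FibCat

namespace Groth.Agent.LeadFibCat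

variable {C : Type u} [Category.{v} C]

/-- the functor between slices -/
def overMap {X Y : C} (f : X ⟶ Y) : overCat X ⥤ᵇ overCat Y := ⟨Over.map f, Over.mapForget_eq f⟩

theorem isRepresentable1_of_diag_rep [HasBinaryProducts C] {𝒮 : BasedCategory.{v, max u v} C}
    (hΔ : IsRepresentable1 (diag (toSelf 𝒮))) (U : C) (G : overCat U ⥤ᵇ 𝒮) : IsRepresentable1 G := by
  intro V H
  let a := overMap (prod.fst : V ⨯ U ⟶ V)
  let b := overMap (prod.snd : V ⨯ U ⟶ U)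
  have hp : ∀ p : (overCat (V ⨯ U)).obj, (selfOver C).p.obj ((BasedFunctor.comp H (toSelf 𝒮)).obj (a.obj p)) =
      (selfOver C).p.obj ((BasedFunctor.comp G (toSelf 𝒮)).obj (b.obj p)) :=
    fun p => (pobj H (a.obj p)).trans (pobj G (b.obj p)).symm
  let E : overCat (V ⨯ U) ⥤ᵇ fp (BasedFunctor.comp H (toSelf 𝒮)) (BasedFunctor.comp G (toSelf 𝒮)) :=
    lift' a b (fun p => eqToIso (hp p))
      (fun {p p'} g => by
        show 𝒮.p.map (H.map (a.map g)) ≫ eqToHom (hp p') = eqToHom (hp p) ≫ 𝒮.p.map (G.map (b.map g))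
        rw [pmap H, pmap G]
        simp only [Category.assoc, eqToHom_trans, eqToHom_trans_assoc]
        rfl)
      (fun p => Vert.eqToHom (p := (selfOver C).p) (hp p))
  have hE : IsEquivOver E := by
    refine isEquivOver_mk E (fun {p p'} ψ => ?_) (fun {p p'} φ φ' h => ?_) (fun η => ?_)
    · have hl : ψ.hom.snd.left = ψ.hom.fst.left := by
        exact (fp_snd_map ψ).trans ((Category.id_comp _).trans (Category.comp_id _))
      refine ⟨Over.homMk ψ.hom.fst.left ?_, fp_ext (Over.OverMorphism.ext rfl) (Over.OverMorphism.ext hl.symm)⟩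
      apply prod.hom_ext
      · rw [Category.assoc]; exact Over.w ψ.hom.fst
      · rw [Category.assoc, ← hl]; exact Over.w ψ.hom.snd
    · exact Over.OverMorphism.ext (congrArg (fun m => m.hom.fst.left) h)
    · let e : η.obj.fst.left = η.obj.snd.left := (fp_snd_obj η).symm
      let p : (overCat (V ⨯ U)).obj := Over.mk (prod.lift η.obj.fst.hom (eqToHom e ≫ η.obj.snd.hom))
      let ea : a.obj p ≅ η.obj.fst := Over.isoMk (Iso.refl _) (by simp [a, p, overMap])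
      let eb : b.obj p ≅ η.obj.snd := Over.isoMk (eqToIso e) (by simp [b, p, overMap])
      refine ⟨p, fpIsoMk ea eb ?_, Vert.id (p := (overCat V).p) η.obj.fst |> fun _ => ⟨rfl, rfl⟩⟩
      show 𝒮.p.map (H.map ea.hom) ≫ η.obj.iso.hom = eqToHom (hp p) ≫ 𝒮.p.map (G.map eb.hom)
      have h0 : η.obj.iso.hom = eqToHom (fp_vert η).1 := (fp_vert η).map_eq
      rw [h0, pmap H, pmap G, show (overCat V).p.map ea.hom = 𝟙 _ from rfl, show (overCat U).p.map eb.hom = eqToHom e from rfl]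
      simp
  obtain ⟨K, Φ, hΦ⟩ := graph G (toSelf 𝒮) H E hE
  exact (isRepresentable_of_equiv hΦ).1 (hΔ _ K)

theorem diag_rep [HasBinaryProducts C] [HasPullbacks C] {𝒮 : BasedCategory.{v, max u v} C} (h𝒮 : IsFibGrpd 𝒮.p)
    (h : ∀ (U : C) (G : overCat U ⥤ᵇ 𝒮), IsRepresentable1 G) : IsRepresentable1 (diag (toSelf 𝒮)) := by
  intro U K
  let x : overCat U ⥤ᵇ 𝒮 := BasedFunctor.comp K (fpFst _ _)
  let y : overCat U ⥤ᵇ 𝒮 := BasedFunctor.comp K (fpSnd _ _)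
  obtain ⟨-, τ, hτ⟩ := (isRepresentable_iff _).1 (h U y U x)
  let a : Over U := τ.obj.fst
  let b : Over U := τ.obj.snd
  have eab : a.left = b.left := (fp_snd_obj τ).symm
  let P := pullback (prod.lift a.hom (eqToHom eab ≫ b.hom)) (prod.lift (𝟙 U) (𝟙 U))
  let k : P ⟶ a.left := pullback.fst _ _
  let c : P ⟶ U := pullback.snd _ _
  have hk : k ≫ a.hom = c ∧ k ≫ eqToHom eab ≫ b.hom = c := by
    have hc : k ≫ prod.lift a.hom (eqToHom eab ≫ b.hom) = c ≫ prod.lift (𝟙 U) (𝟙 U) := pullback.condition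
    exact ⟨by simpa using congrArg (· ≫ prod.fst) hc, by simpa using congrArg (· ≫ prod.snd) hc⟩
  let m₀ : Over U := Over.mk c
  let ma : m₀ ⟶ a := Over.homMk k hk.1
  let mb : m₀ ⟶ b := Over.homMk (k ≫ eqToHom eab) (by rw [Category.assoc]; exact hk.2)
  have hτi : Vert 𝒮.p τ.obj.iso.hom := fp_vert τ
  obtain ⟨θ₀, h1, h2⟩ := sc_exists (h𝒮.isStronglyCartesian (y.map mb)) (x.map ma ≫ τ.obj.iso.hom)
    (eqToHom ((pobj x m₀).trans (pobj y m₀).symm)) (by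
      rw [Functor.map_comp, pmap, pmap, hτi.map_eq]
      simp only [show (overCat U).p.map mb = k ≫ eqToHom eab from rfl, show (overCat U).p.map ma = k from rfl,
        Category.assoc, eqToHom_trans, eqToHom_trans_assoc])
  have hθ₀ : Vert 𝒮.p θ₀ := ⟨_, h1⟩
  haveI := isIso_of_vert h𝒮 hθ₀
  let ξ₀ : (fp K (diag (toSelf 𝒮))).obj :=
    fpMk m₀ (y.obj m₀) (fpIsoMk (asIso θ₀) (Iso.refl _) (by
      show 𝒮.p.map θ₀ ≫ 𝟙 _ = (K.obj m₀).obj.iso.hom ≫ 𝒮.p.map (𝟙 _)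
      rw [𝒮.p.map_id, prod_iso_hom, h1]
      exact (Category.comp_id _).trans (Category.comp_id _).symm)) hθ₀
  refine (isRepresentable_iff _).2 ⟨isFibGrpd_fp (isFibGrpd_overCat U) h𝒮 (isFibGrpd_fp h𝒮 h𝒮 isFibGrpd_selfOver),
    ξ₀, fun ρ => ?_⟩
  let u : Over U := ρ.obj.fst
  let ei : x.obj u ≅ ρ.obj.snd := (CategoricalPullback.π₁ _ _).mapIso ((fpProp _ _).ι.mapIso ρ.obj.iso)
  let ej : y.obj u ≅ ρ.obj.snd := (CategoricalPullback.π₂ _ _).mapIso ((fpProp _ _).ι.mapIso ρ.obj.iso)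
  have hei : Vert 𝒮.p ei.hom := (fp_vert ρ).map (F := fpFst (toSelf 𝒮) (toSelf 𝒮))
  have hej : Vert 𝒮.p ej.hom := (fp_vert ρ).map (F := fpSnd (toSelf 𝒮) (toSelf 𝒮))
  let σ : (fp x y).obj := fpMk u u (ei ≪≫ ej.symm) (hei.comp hej.symm)
  haveI := (hτ σ).some
  let t : σ ⟶ τ := default
  let na : u ⟶ a := t.hom.fst
  let nb : u ⟶ b := t.hom.snd
  have hnb : nb.left = na.left ≫ eqToHom eab := by
    exact (fp_snd_map t).trans (Category.id_comp _)
  let l : u.left ⟶ P := pullback.lift na.left u.hom (by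
    apply prod.hom_ext
    · simp [na]
    · simp only [Category.assoc, prod.lift_snd, Category.comp_id]
      rw [← Category.assoc, ← hnb]; exact Over.w nb)
  let m : u ⟶ m₀ := Over.homMk l (pullback.lift_snd _ _ _)
  have hma : m ≫ ma = na := Over.OverMorphism.ext (by simp [m, ma, l, k])
  have hmb : m ≫ mb = nb := Over.OverMorphism.ext (by simp [m, mb, l, k, hnb])
  have hw : (ei.hom ≫ ej.inv) ≫ y.map m = x.map m ≫ θ₀ := by
    refine sc_ext (h𝒮.isStronglyCartesian (y.map mb)) ?_ ?_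
    · simp [pmap, (hei.comp hej.symm).map_eq, h1, hθ₀.map_eq, Functor.map_comp,
        hei.map_eq, (Vert.symm hej).map_eq]
    · rw [Category.assoc, ← Functor.map_comp, hmb, Category.assoc (x.map m) θ₀, h2, ← Category.assoc (x.map m),
        ← Functor.map_comp, hma]
      exact t.hom.w.symm
  refine ⟨{ default := fpHom m (ej.inv ≫ y.map m) (fp_ext ?_ ?_), uniq := fun ψ => ?_ }⟩
  · show x.map m ≫ θ₀ = ei.hom ≫ ej.inv ≫ y.map m
    rw [← hw, Category.assoc]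
  · show y.map m ≫ 𝟙 (y.obj m₀) = ej.hom ≫ ej.inv ≫ y.map m
    rw [Category.comp_id, Iso.hom_inv_id_assoc]
  · let m' : u ⟶ m₀ := ψ.hom.fst
    have wa : x.map m' ≫ θ₀ = ei.hom ≫ ψ.hom.snd := congrArg (fun q => q.hom.fst) ψ.hom.w
    have wb : y.map m' ≫ 𝟙 (y.obj m₀) = ej.hom ≫ ψ.hom.snd := congrArg (fun q => q.hom.snd) ψ.hom.w
    rw [Category.comp_id] at wb
    have hq : ψ.hom.snd = ej.inv ≫ y.map m' := by rw [wb, Iso.inv_hom_id_assoc]
    have wt : x.map (m' ≫ ma) ≫ τ.obj.iso.hom = (ei.hom ≫ ej.inv) ≫ y.map (m' ≫ mb) := by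
      rw [Functor.map_comp, Category.assoc, ← h2, ← Category.assoc, wa, Functor.map_comp, wb]
      simp
    have htu : (fpHom (x := σ) (y := τ) (m' ≫ ma) (m' ≫ mb) wt) = t := Subsingleton.elim _ _
    have hm : m' = m := by
      refine Over.OverMorphism.ext (pullback.hom_ext ?_ ?_)
      · have := congrArg (fun q => q.hom.fst.left) htu
        change m'.left ≫ k = na.left at this
        exact this.trans (pullback.lift_fst _ _ _).symm
      · exact (Over.w m').trans (pullback.lift_snd _ _ _).symm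
    exact fp_ext hm (hq.trans (by rw [hm]; rfl))

theorem isRepresentable1_overMap [HasPullbacks C] {X Y : C} (f : X ⟶ Y) : IsRepresentable1 (overMap f) := by
  intro U G
  let o : Over U := Over.mk (𝟙 U)
  let h : U ⟶ Y := eqToHom (pobj G o).symm ≫ (G.obj o).hom
  have hG : ∀ w : Over U, (G.obj w).hom = eqToHom (pobj G w) ≫ w.hom ≫ h := fun w => by
    have h1 := Over.w (G.map (Over.homMk w.hom (Category.comp_id _) : w ⟶ o))
    have h2 := pmap G (Over.homMk w.hom (Category.comp_id _) : w ⟶ o)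
    change (G.map (Over.homMk w.hom (Category.comp_id _) : w ⟶ o)).left = _ at h2
    rw [h2] at h1
    simp only [h, ← h1, Category.assoc]
    rfl
  let P := pullback h f
  let p₁ : P ⟶ U := pullback.fst _ _
  let p₂ : P ⟶ X := pullback.snd _ _
  have hP : p₁ ≫ h = p₂ ≫ f := pullback.condition
  let ξ : (fp G (overMap f)).obj :=
    fpMk (Over.mk p₁) (Over.mk p₂) (Over.isoMk (eqToIso (pobj G (Over.mk p₁))) (by
      rw [hG]
      show eqToHom (pobj G (Over.mk p₁)) ≫ p₂ ≫ f = eqToHom (pobj G (Over.mk p₁)) ≫ p₁ ≫ h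
      rw [hP])) ⟨pobj G (Over.mk p₁), rfl⟩
  refine (isRepresentable_iff _).2 ⟨isFibGrpd_fp (isFibGrpd_overCat U) (isFibGrpd_overCat X) (isFibGrpd_overCat Y),
    ξ, fun ρ => ?_⟩
  let w : Over U := ρ.obj.fst
  let v : Over X := ρ.obj.snd
  have ewv : w.left = v.left := (fp_snd_obj ρ).symm
  have hρ : ρ.obj.iso.hom.left = eqToHom ((pobj G w).trans ewv) := (fp_vert ρ).map_eq
  have hcond : w.hom ≫ h = (eqToHom ewv ≫ v.hom) ≫ f := by
    have h1 := Over.w ρ.obj.iso.hom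
    rw [hρ, hG] at h1
    rw [← cancel_epi (eqToHom (pobj G w))]
    refine h1.symm.trans ?_
    simp [v, overMap]
  let l : w.left ⟶ P := pullback.lift w.hom (eqToHom ewv ≫ v.hom) hcond
  let a : w ⟶ Over.mk p₁ := Over.homMk l (pullback.lift_fst _ _ _)
  let b : v ⟶ Over.mk p₂ := Over.homMk (eqToHom ewv.symm ≫ l) (by simp [l, p₂])
  refine ⟨{ default := fpHom a b (Over.OverMorphism.ext ?_), uniq := fun ψ => ?_ }⟩
  · show (G.map a).left ≫ eqToHom (pobj G (Over.mk p₁)) = ρ.obj.iso.hom.left ≫ eqToHom ewv.symm ≫ l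
    have h2 := pmap G a
    change (G.map a).left = _ at h2
    rw [h2, hρ]
    simp [a]
    rfl
  · have hs := fp_snd_map ψ
    change ψ.hom.snd.left = eqToHom ewv.symm ≫ ψ.hom.fst.left ≫ 𝟙 _ at hs
    rw [Category.comp_id] at hs
    have hl : ψ.hom.fst.left = l := by
      refine pullback.hom_ext ((Over.w ψ.hom.fst).trans (pullback.lift_fst _ _ _).symm) ?_
      refine Eq.trans ?_ (pullback.lift_snd _ _ _).symm
      have h3 := Over.w ψ.hom.snd
      rw [hs, Category.assoc] at h3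
      exact (eqToHom_comp_iff _ _ _).1 h3
    exact fp_ext (Over.OverMorphism.ext hl) (Over.OverMorphism.ext (hs.trans (congrArg _ hl)))

theorem isRepresentable1_prod {𝒳₁ 𝒳₂ 𝒴₁ 𝒴₂ : BasedCategory.{v, max u v} C}
    (f₁ : 𝒳₁ ⥤ᵇ 𝒴₁) (f₂ : 𝒳₂ ⥤ᵇ 𝒴₂) (hf₁ : IsRepresentable1 f₁) (hf₂ : IsRepresentable1 f₂)
    (e : BasedFunctor.comp (BasedFunctor.comp (fpFst (toSelf 𝒳₁) (toSelf 𝒳₂)) f₁) (toSelf 𝒴₁) ≅
      BasedFunctor.comp (BasedFunctor.comp (fpSnd (toSelf 𝒳₁) (toSelf 𝒳₂)) f₂) (toSelf 𝒴₂)) :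
    IsRepresentable1 (fpLift (BasedFunctor.comp (fpFst (toSelf 𝒳₁) (toSelf 𝒳₂)) f₁)
      (BasedFunctor.comp (fpSnd (toSelf 𝒳₁) (toSelf 𝒳₂)) f₂) e) := by
  intro U G
  let Pm : fp (toSelf 𝒳₁) (toSelf 𝒳₂) ⥤ᵇ fp (toSelf 𝒴₁) (toSelf 𝒴₂) :=
    fpLift (BasedFunctor.comp (fpFst (toSelf 𝒳₁) (toSelf 𝒳₂)) f₁)
      (BasedFunctor.comp (fpSnd (toSelf 𝒳₁) (toSelf 𝒳₂)) f₂) e
  let G₁ : overCat U ⥤ᵇ 𝒴₁ := BasedFunctor.comp G (fpFst _ _)
  let G₂ : overCat U ⥤ᵇ 𝒴₂ := BasedFunctor.comp G (fpSnd _ _)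
  obtain ⟨V, E₀, hE₀⟩ := hf₁ U G₁
  obtain ⟨E, hE, -⟩ := equiv_inv hE₀
  obtain ⟨e1, e2, e3⟩ := equiv_props hE
  let H : overCat V ⥤ᵇ 𝒴₂ := BasedFunctor.comp E (BasedFunctor.comp (fpFst _ _) G₂)
  have hobj : ∀ w : (fp H f₂).obj, 𝒳₁.p.obj (E.obj w.obj.fst).obj.snd = 𝒳₂.p.obj w.obj.snd := fun w =>
    (fp_snd_obj (E.obj w.obj.fst)).trans ((pobj (BasedFunctor.comp E (fpFst _ _)) w.obj.fst).trans (fp_snd_obj w).symm)
  let B : fp H f₂ ⥤ᵇ fp (toSelf 𝒳₁) (toSelf 𝒳₂) :=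
    lift' (BasedFunctor.comp (fpFst H f₂) (BasedFunctor.comp E (fpSnd _ _))) (fpSnd H f₂)
      (fun w => eqToIso (hobj w))
      (fun {w w'} φ => by
        show 𝒳₁.p.map (E.map φ.hom.fst).hom.snd ≫ eqToHom (hobj w') = eqToHom (hobj w) ≫ 𝒳₂.p.map φ.hom.snd
        rw [fp_snd_map (E.map φ.hom.fst), fp_snd_map φ,
          show (overCat U).p.map (E.map φ.hom.fst).hom.fst = _ from pmap (BasedFunctor.comp E (fpFst _ _)) φ.hom.fst]
        simp only [Category.assoc, eqToHom_trans, eqToHom_trans_assoc])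
      (fun w => Vert.eqToHom (p := (selfOver C).p) (hobj w))
  let θ : ∀ w : (fp H f₂).obj, G.obj (E.obj w.obj.fst).obj.fst ≅ Pm.obj (B.obj w) := fun w =>
    fpIsoMk (E.obj w.obj.fst).obj.iso w.obj.iso (by
      show 𝒴₁.p.map (E.obj w.obj.fst).obj.iso.hom ≫ (Pm.obj (B.obj w)).obj.iso.hom =
        (G.obj (E.obj w.obj.fst).obj.fst).obj.iso.hom ≫ 𝒴₂.p.map w.obj.iso.hom
      rw [prod_iso_hom, prod_iso_hom, (fp_vert w).map_eq, (fp_vert (E.obj w.obj.fst)).map_eq]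
      exact (eqToHom_trans _ _).trans (eqToHom_trans _ _).symm)
  let Φ : fp H f₂ ⥤ᵇ fp G Pm :=
    lift' (BasedFunctor.comp (fpFst H f₂) (BasedFunctor.comp E (fpFst _ _))) B θ
      (fun {w w'} φ => fp_ext (E.map φ.hom.fst).hom.w φ.hom.w)
      (fun w => fp_vert (E.obj w.obj.fst))
  refine (isRepresentable_of_equiv (F := Φ) ?_).1 (hf₂ V H)
  refine isEquivOver_mk Φ (fun {w w'} ψ => ?_) (fun {w w'} φ φ' h => ?_) (fun η => ?_)
  · have wa : G₁.map ψ.hom.fst ≫ (E.obj w'.obj.fst).obj.iso.hom =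
        (E.obj w.obj.fst).obj.iso.hom ≫ f₁.map ψ.hom.snd.hom.fst := congrArg (fun q => q.hom.fst) ψ.hom.w
    have wb : G₂.map ψ.hom.fst ≫ w'.obj.iso.hom = w.obj.iso.hom ≫ f₂.map ψ.hom.snd.hom.snd :=
      congrArg (fun q => q.hom.snd) ψ.hom.w
    obtain ⟨p, hp⟩ := e1 (fpHom (x := E.obj w.obj.fst) (y := E.obj w'.obj.fst) ψ.hom.fst ψ.hom.snd.hom.fst wa)
    refine ⟨fpHom p ψ.hom.snd.hom.snd ?_,
      fp_ext (congrArg (fun q => q.hom.fst) hp) (fp_ext (congrArg (fun q => q.hom.snd) hp) rfl)⟩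
    show G₂.map (E.map p).hom.fst ≫ _ = _
    rw [hp]; exact wb
  · exact fp_ext (e2 _ _ (fp_ext (congrArg (fun q => q.hom.fst) h) (congrArg (fun q => q.hom.snd.hom.fst) h)))
      (congrArg (fun q => q.hom.snd.hom.snd) h)
  · let ia : G₁.obj η.obj.fst ≅ f₁.obj η.obj.snd.obj.fst :=
      (CategoricalPullback.π₁ _ _).mapIso ((fpProp _ _).ι.mapIso η.obj.iso)
    let ib : G₂.obj η.obj.fst ≅ f₂.obj η.obj.snd.obj.snd :=
      (CategoricalPullback.π₂ _ _).mapIso ((fpProp _ _).ι.mapIso η.obj.iso)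
    have hia : Vert 𝒴₁.p ia.hom := (fp_vert η).map (F := fpFst (toSelf 𝒴₁) (toSelf 𝒴₂))
    have hib : Vert 𝒴₂.p ib.hom := (fp_vert η).map (F := fpSnd (toSelf 𝒴₁) (toSelf 𝒴₂))
    obtain ⟨p, ep, hep⟩ := e3 (fpMk η.obj.fst η.obj.snd.obj.fst ia hia)
    let ea : (E.obj p).obj.fst ≅ η.obj.fst := (CategoricalPullback.π₁ _ _).mapIso ((fpProp _ _).ι.mapIso ep)
    let eb : (E.obj p).obj.snd ≅ η.obj.snd.obj.fst := (CategoricalPullback.π₂ _ _).mapIso ((fpProp _ _).ι.mapIso ep)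
    have hea : Vert (overCat U).p ea.hom := hep.map (F := fpFst G₁ f₁)
    have heb : Vert 𝒳₁.p eb.hom := hep.map (F := fpSnd G₁ f₁)
    let w : (fp H f₂).obj := fpMk p η.obj.snd.obj.snd (G₂.toFunctor.mapIso ea ≪≫ ib) ((hea.map (F := G₂)).comp hib)
    refine ⟨w, fpIsoMk ea (fpIsoMk eb (Iso.refl _) ?_) (fp_ext ?_ ?_), hea⟩
    · show 𝒳₁.p.map eb.hom ≫ η.obj.snd.obj.iso.hom = eqToHom (hobj w) ≫ 𝒳₂.p.map (𝟙 η.obj.snd.obj.snd)
      rw [prod_iso_hom, heb.map_eq]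
      exact (eqToHom_trans _ _).trans ((Category.comp_id (eqToHom (hobj w))).symm.trans (congrArg (fun m => eqToHom (hobj w) ≫ m) (𝒳₂.p.map_id _).symm))
    · exact ep.hom.hom.w
    · show G₂.map ea.hom ≫ ib.hom = (G₂.map ea.hom ≫ ib.hom) ≫ f₂.map (𝟙 _)
      rw [f₂.toFunctor.map_id]; exact (Category.comp_id _).symm

end Groth.Agent.LeadFibCat
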