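import Groth.Agent.Lead.FibCat.Cart
import Groth.Prelude.Def_W4stkcategoriessitesFib

/-! Fibre functors, 2-Yoneda, inertia. -/

set_option autoImplicit false
set_option backward.isDefEq.respectTransparency false
set_option backward.isDefEq.respectTransparency.types false

universe v₂ v₃ u₂ u₃ v u

open CategoryTheory CategoryTheory.Limits CategoryTheory.Functor FibCat

namespace Groth.Agent.LeadFibCat

variable {C : Type u} [Category.{v} C]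

section Fibre

variable {𝒳 : BasedCategory.{v₂, u₂} C} {𝒴 : BasedCategory.{v₃, u₃} C} (G : 𝒳 ⥤ᵇ 𝒴)

theorem fiberFunctor_unique (U : C) (GU : 𝒳.p.Fiber U ⥤ 𝒴.p.Fiber U)
    (h : GU ⋙ Fiber.fiberInclusion = Fiber.fiberInclusion ⋙ G.toFunctor) : GU = fiberFunctor G U := by
  refine CategoryTheory.Functor.ext (fun x => Subtype.ext (Functor.congr_obj h x)) fun x y φ => ?_
  apply Fiber.hom_ext
  have := Functor.congr_hom h φ
  simp only [Functor.comp_map] at this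
  rw [Functor.map_comp, Functor.map_comp, eqToHom_map, eqToHom_map, this]
  rfl

theorem fibre_faithful (hf : ∀ {a b : 𝒳.obj} (φ φ' : a ⟶ b), G.map φ = G.map φ' → φ = φ') (U : C) :
    (fiberFunctor G U).Faithful :=
  ⟨fun {x y f g} h => Subtype.ext (hf f.1 g.1 (congrArg (fun m => m.1) h))⟩

theorem fibre_full (hf : ∀ {a b : 𝒳.obj} (ψ : G.obj a ⟶ G.obj b), ∃ φ, G.map φ = ψ) (U : C) :
    (fiberFunctor G U).Full := by
  refine ⟨fun {x y} ψ => ?_⟩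
  obtain ⟨φ, hφ⟩ := hf (a := x.1) (b := y.1) ψ.1
  have hv : Vert 𝒳.p φ := Vert.reflect (F := G) (by rw [hφ]; exact Vert.of_lift ψ.2)
  exact ⟨⟨φ, hv.lift x.2⟩, Subtype.ext hφ⟩

/-- vertical faithfulness -/
def VFaith : Prop := ∀ {a b : 𝒳.obj} (φ φ' : a ⟶ b), Vert 𝒳.p φ → Vert 𝒳.p φ' → G.map φ = G.map φ' → φ = φ'

/-- vertical fullness -/
def VFull : Prop := ∀ {a b : 𝒳.obj} (ψ : G.obj a ⟶ G.obj b), Vert 𝒴.p ψ → ∃ φ, Vert 𝒳.p φ ∧ G.map φ = ψ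

/-- sends strongly cartesian morphisms to strongly cartesian morphisms -/
def PSC : Prop := ∀ {a b : 𝒳.obj} (φ : a ⟶ b), 𝒳.p.IsStronglyCartesian (𝒳.p.map φ) φ →
  𝒴.p.IsStronglyCartesian (𝒴.p.map (G.map φ)) (G.map φ)

variable {G}

theorem vfaith_of (h : ∀ U, (fiberFunctor G U).Faithful) : VFaith G := by
  intro a b φ φ' hφ hφ' e
  haveI := h (𝒳.p.obj a)
  let x : 𝒳.p.Fiber (𝒳.p.obj a) := Subtype.mk a rfl
  let y : 𝒳.p.Fiber (𝒳.p.obj a) := Subtype.mk b hφ.1.symm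
  exact congrArg Subtype.val ((fiberFunctor G (𝒳.p.obj a)).map_injective
    (X := x) (Y := y) (a₁ := (⟨φ, hφ.lift rfl⟩ : x ⟶ y)) (a₂ := (⟨φ', hφ'.lift rfl⟩ : x ⟶ y)) (Subtype.ext e))

theorem vfull_of (h : ∀ U, (fiberFunctor G U).Full) : VFull G := by
  intro a b ψ hψ
  haveI := h (𝒳.p.obj a)
  let x : 𝒳.p.Fiber (𝒳.p.obj a) := Subtype.mk a rfl
  let y : 𝒳.p.Fiber (𝒳.p.obj a) := Subtype.mk b ((pobj G b).symm.trans (hψ.1.symm.trans (pobj G a)))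
  obtain ⟨φ, hφ⟩ := (fiberFunctor G (𝒳.p.obj a)).map_surjective (X := x) (Y := y) ⟨ψ, hψ.lift (pobj G a)⟩
  exact ⟨φ.1, Vert.of_lift φ.2, congrArg Subtype.val hφ⟩

theorem faithful_of_vert (h𝒳 : 𝒳.p.IsFibered) (hG : PSC G) (hv : VFaith G) :
    ∀ {a b : 𝒳.obj} (φ φ' : a ⟶ b), G.map φ = G.map φ' → φ = φ' := by
  intro a b φ φ' e
  obtain ⟨c, χ, ec, hχ, hs⟩ := exists_sc h𝒳 (x := b) (𝒳.p.map φ)
  have hb : 𝒳.p.map φ' = 𝒳.p.map φ := by
    have := congrArg 𝒴.p.map e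
    rw [pmap, pmap, cancel_epi, cancel_mono] at this
    exact this.symm
  obtain ⟨v, hv1, hv2⟩ := sc_exists hs φ (eqToHom ec.symm) (by rw [hχ]; simp)
  obtain ⟨v', hv1', hv2'⟩ := sc_exists hs φ' (eqToHom ec.symm) (by rw [hχ, hb]; simp)
  have : G.map v = G.map v' := sc_ext (hG χ hs) (by rw [pmap, pmap, hv1, hv1'])
    (by rw [← Functor.map_comp, ← Functor.map_comp, hv2, hv2', e])
  rw [← hv2, ← hv2', hv v v' ⟨ec.symm, hv1⟩ ⟨ec.symm, hv1'⟩ this]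

theorem full_of_vert (h𝒳 : 𝒳.p.IsFibered) (hG : PSC G) (hv : VFull G) :
    ∀ {a b : 𝒳.obj} (ψ : G.obj a ⟶ G.obj b), ∃ φ, G.map φ = ψ := by
  intro a b ψ
  obtain ⟨c, χ, ec, hχ, hs⟩ := exists_sc h𝒳 (x := b) (eqToHom (pobj G a).symm ≫ 𝒴.p.map ψ ≫ eqToHom (pobj G b))
  obtain ⟨w, hw1, hw2⟩ := sc_exists (hG χ hs) ψ (eqToHom ((pobj G a).trans (ec.symm.trans (pobj G c).symm)))
    (by rw [pmap, hχ]; simp)
  obtain ⟨v, -, hv2⟩ := hv w ⟨_, hw1⟩
  exact ⟨v ≫ χ, by rw [Functor.map_comp, hv2, hw2]⟩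

theorem fibre_essSurj (h : ∀ η : 𝒴.obj, ∃ (ξ : 𝒳.obj) (e : G.obj ξ ≅ η), Vert 𝒴.p e.hom) (U : C) :
    (fiberFunctor G U).EssSurj := by
  refine ⟨fun y => ?_⟩
  obtain ⟨ξ, e, he⟩ := h y.1
  have hξ : 𝒳.p.obj ξ = U := (pobj G ξ).symm.trans (he.1.trans y.2)
  refine ⟨Subtype.mk ξ hξ, ⟨⟨⟨e.hom, he.lift ((pobj G ξ).trans hξ)⟩, ⟨e.inv, (Vert.symm he).lift y.2⟩, ?_, ?_⟩⟩⟩
  · exact Subtype.ext e.hom_inv_id
  · exact Subtype.ext e.inv_hom_id

theorem ess_of_fibre (h : ∀ U, (fiberFunctor G U).EssSurj) :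
    ∀ η : 𝒴.obj, ∃ (ξ : 𝒳.obj) (e : G.obj ξ ≅ η), Vert 𝒴.p e.hom := by
  intro η
  haveI := h (𝒴.p.obj η)
  let y : 𝒴.p.Fiber (𝒴.p.obj η) := Subtype.mk η rfl
  let i := (fiberFunctor G _).objObjPreimageIso y
  exact ⟨_, Fiber.fiberInclusion.mapIso i, Vert.of_lift i.hom.2⟩

theorem equiv_iff_fibres (h𝒳 : 𝒳.p.IsFibered) (hG : PSC G) :
    IsEquivOver G ↔ ∀ U, (fiberFunctor G U).IsEquivalence := by
  constructor
  · intro h U
    obtain ⟨h1, h2, h3⟩ := equiv_props h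
    haveI := fibre_full G h1 U
    haveI := fibre_faithful G h2 U
    haveI := fibre_essSurj h3 U
    exact {}
  · intro h
    refine isEquivOver_mk G (full_of_vert h𝒳 hG (vfull_of fun U => inferInstance))
      (faithful_of_vert h𝒳 hG (vfaith_of fun U => inferInstance)) (ess_of_fibre fun U => inferInstance)

theorem equivalence_iff_fibres (h𝒳 : IsFibGrpd 𝒳.p) (h𝒴 : IsFibGrpd 𝒴.p) :
    G.toFunctor.IsEquivalence ↔ ∀ U, (fiberFunctor G U).IsEquivalence := by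
  rw [← equiv_iff_fibres (isFibered_of_isFibGrpd h𝒳) fun φ _ => h𝒴.isStronglyCartesian _]
  constructor
  · intro hE
    refine isEquivOver_mk G (fun ψ => G.toFunctor.map_surjective ψ) (fun φ φ' e => G.toFunctor.map_injective e)
      fun η => ?_
    let ξ := G.toFunctor.objPreimage η
    let e : G.obj ξ ≅ η := G.toFunctor.objObjPreimageIso η
    let α : 𝒴.p.obj η ⟶ 𝒳.p.obj ξ := 𝒴.p.map e.inv ≫ eqToHom (pobj G ξ)
    obtain ⟨ξ', φ, eξ, hφ⟩ := exists_lift' h𝒳 α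
    haveI : IsIso (𝒳.p.map φ) := by rw [hφ]; infer_instance
    haveI := h𝒳.isStronglyCartesian φ
    haveI : IsIso φ := IsStronglyCartesian.isIso_of_base_isIso 𝒳.p (𝒳.p.map φ) φ
    refine ⟨ξ', G.toFunctor.mapIso (asIso φ) ≪≫ e, (pobj G ξ').trans eξ, ?_⟩
    show 𝒴.p.map (G.map φ ≫ e.hom) = _
    rw [Functor.map_comp, pmap, hφ]
    simp [α, ← 𝒴.p.map_comp]
  · intro h
    obtain ⟨h1, h2, h3⟩ := equiv_props h
    haveI : G.toFunctor.Full := ⟨fun {_ _} => h1⟩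
    haveI : G.toFunctor.Faithful := ⟨fun {_ _ φ φ'} e => h2 φ φ' e⟩
    haveI : G.toFunctor.EssSurj := ⟨fun η => by obtain ⟨ξ, e, -⟩ := h3 η; exact ⟨ξ, ⟨e⟩⟩⟩
    exact {}

end Fibre

section Yoneda

variable {𝒳 : BasedCategory.{v, max u v} C} {U : C}

/-- the morphism to the identity -/
abbrev toTop (u : Over U) : u ⟶ Over.mk (𝟙 U) := Over.homMk u.hom (Category.comp_id _)

theorem yoneda_ext {G H : overCat U ⥤ᵇ 𝒳} (hH : PSC H) (α β : G ⟶ H)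
    (h : α.toNatTrans.app (Over.mk (𝟙 U)) = β.toNatTrans.app (Over.mk (𝟙 U))) : α = β := by
  apply BasedNatTrans.ext
  apply NatTrans.ext
  funext u
  refine sc_ext (hH (toTop u) ((isFibGrpd_overCat U).isStronglyCartesian _)) ?_ ?_
  · have h1 : Vert 𝒳.p (α.toNatTrans.app u) := Vert.of_lift (BasedNatTrans.isHomLift α rfl)
    have h2 : Vert 𝒳.p (β.toNatTrans.app u) := Vert.of_lift (BasedNatTrans.isHomLift β rfl)
    rw [h1.map_eq, h2.map_eq]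
  · rw [← α.toNatTrans.naturality, ← β.toNatTrans.naturality, h]

theorem yoneda_full {G H : overCat U ⥤ᵇ 𝒳} (hH : PSC H)
    (θ : G.obj (Over.mk (𝟙 U)) ⟶ H.obj (Over.mk (𝟙 U))) (hθ : Vert 𝒳.p θ) :
    ∃ α : G ⟶ H, α.toNatTrans.app (Over.mk (𝟙 U)) = θ := by
  have key : ∀ u : Over U, ∃ χ : G.obj u ⟶ H.obj u, Vert 𝒳.p χ ∧ χ ≫ H.map (toTop u) = G.map (toTop u) ≫ θ := by
    intro u
    obtain ⟨χ, h1, h2⟩ := sc_exists (hH (toTop u) ((isFibGrpd_overCat U).isStronglyCartesian _))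
      (G.map (toTop u) ≫ θ) (eqToHom ((pobj G u).trans (pobj H u).symm))
      (by rw [Functor.map_comp, pmap, pmap, hθ.map_eq]; simp)
    exact ⟨χ, ⟨_, h1⟩, h2⟩
  choose χ hv hc using key
  let N : G.toFunctor ⟶ H.toFunctor :=
    { app := χ
      naturality := fun u u' m => by
        refine sc_ext (hH (toTop u') ((isFibGrpd_overCat U).isStronglyCartesian _)) ?_ ?_
        · rw [Functor.map_comp, Functor.map_comp, (hv u).map_eq, (hv u').map_eq, pmap, pmap]; simp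
        · rw [Category.assoc, hc, ← Category.assoc, ← Functor.map_comp, Category.assoc, ← Functor.map_comp]
          have hm : m ≫ toTop u' = toTop u := Over.OverMorphism.ext (Over.w m)
          rw [hm, hc] }
  refine ⟨⟨N, fun u => (hv u).lift (pobj G u)⟩, ?_⟩
  show χ _ = θ
  have hm : toTop (Over.mk (𝟙 U)) = 𝟙 (Over.mk (𝟙 U)) := Over.OverMorphism.ext rfl
  have := hc (Over.mk (𝟙 U))
  rw [hm, G.toFunctor.map_id, H.toFunctor.map_id, Category.id_comp, Category.comp_id] at this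
  exact this

theorem yoneda_ess (h𝒳 : 𝒳.p.IsFibered) (x : 𝒳.obj) (hx : 𝒳.p.obj x = U) :
    ∃ (G : overCat U ⥤ᵇ 𝒳) (e : G.obj (Over.mk (𝟙 U)) ≅ x), PSC G ∧ Vert 𝒳.p e.hom := by
  have key : ∀ u : Over U, ∃ (y : 𝒳.obj) (φ : y ⟶ x) (e : 𝒳.p.obj y = u.left),
      𝒳.p.map φ = eqToHom e ≫ u.hom ≫ eqToHom hx.symm ∧ 𝒳.p.IsStronglyCartesian (𝒳.p.map φ) φ :=
    fun u => exists_sc h𝒳 (u.hom ≫ eqToHom hx.symm)
  choose y φ ey hφ hs using key
  have kmap : ∀ {u u' : Over U} (m : u ⟶ u'), ∃ χ : y u ⟶ y u',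
      𝒳.p.map χ = eqToHom (ey u) ≫ m.left ≫ eqToHom (ey u').symm ∧ χ ≫ φ u' = φ u := fun {u u'} m =>
    sc_exists (hs u') (φ u) _ (by
      rw [hφ u', hφ u]
      simp only [Category.assoc, eqToHom_trans_assoc, eqToHom_refl, Category.id_comp]
      rw [← Category.assoc m.left, Over.w m])
  choose F hF1 hF2 using @kmap
  let G : overCat U ⥤ᵇ 𝒳 :=
    { toFunctor :=
        { obj := y
          map := fun m => F m
          map_id := fun u => by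
            refine sc_ext (hs u) ?_ ((hF2 _).trans (Category.id_comp _).symm)
            rw [hF1, 𝒳.p.map_id]
            exact (congrArg (eqToHom (ey u) ≫ ·) (Category.id_comp _)).trans (eqToHom_trans _ _)
          map_comp := fun {u u' u''} m n => by
            refine sc_ext (hs u'') ?_ (by rw [Category.assoc, hF2, hF2, hF2])
            rw [hF1, 𝒳.p.map_comp, hF1, hF1]
            simp [show (m ≫ n).left = m.left ≫ n.left from rfl] }
      w := CategoryTheory.Functor.ext ey fun u u' m => hF1 m }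
  let o : Over U := Over.mk (𝟙 U)
  have ho : Vert 𝒳.p (φ o) := ⟨(ey o).trans hx.symm, by
    rw [hφ o]; exact (congrArg (eqToHom (ey o) ≫ ·) (Category.id_comp _)).trans (eqToHom_trans _ _)⟩
  haveI := hs o
  haveI : IsIso (𝒳.p.map (φ o)) := by rw [ho.map_eq]; infer_instance
  haveI : IsIso (φ o) := IsStronglyCartesian.isIso_of_base_isIso 𝒳.p (𝒳.p.map (φ o)) (φ o)
  refine ⟨G, asIso (φ o), fun {u u'} m _ => ?_, ho⟩
  show 𝒳.p.IsStronglyCartesian (𝒳.p.map (F m)) (F m)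
  haveI := hs u'
  haveI : 𝒳.p.IsStronglyCartesian (𝒳.p.map (F m) ≫ 𝒳.p.map (φ u')) (F m ≫ φ u') := by
    rw [← 𝒳.p.map_comp, hF2 m]; exact hs u
  exact IsStronglyCartesian.of_comp (p := 𝒳.p) (g := 𝒳.p.map (φ u')) (ψ := φ u')

theorem evalAtId_isEquivalence (h𝒳 : IsFibGrpd 𝒳.p) (U : C) : (evalAtId 𝒳 U).IsEquivalence := by
  have hP : ∀ G : overCat U ⥤ᵇ 𝒳, PSC G := fun G {a b} φ _ => h𝒳.isStronglyCartesian (G.map φ)
  haveI : (evalAtId 𝒳 U).Faithful := ⟨fun {G H α β} e => yoneda_ext (hP H) α β (congrArg Subtype.val e)⟩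
  haveI : (evalAtId 𝒳 U).Full := ⟨fun {G H} θ => by
    obtain ⟨α, hα⟩ := yoneda_full (hP H) θ.1 (Vert.of_lift θ.2)
    exact ⟨α, Subtype.ext hα⟩⟩
  haveI : (evalAtId 𝒳 U).EssSurj := ⟨fun x => by
    obtain ⟨G, e, -, he⟩ := yoneda_ess (isFibered_of_isFibGrpd h𝒳) x.1 x.2
    exact ⟨G, ⟨⟨⟨e.hom, he.lift (pobj G _)⟩, ⟨e.inv, (Vert.symm he).lift x.2⟩,
      Subtype.ext e.hom_inv_id, Subtype.ext e.inv_hom_id⟩⟩⟩⟩
  exact {}

theorem psc_iff {𝒴 : BasedCategory.{v₃, u₃} C} (G : 𝒴 ⥤ᵇ 𝒳) : PSC G ↔ PreservesStronglyCartesian G := by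
  constructor
  · intro h R S f a b φ hφ
    haveI := hφ
    exact sc_of f _ (h φ (sc_map_of f φ hφ))
  · intro h a b φ hφ
    exact sc_map_of _ _ (h (𝒴.p.map φ) φ hφ)

theorem evalAtId_pres_isEquivalence (h𝒳 : 𝒳.p.IsFibered) (U : C) :
    ((ObjectProperty.ι (PreservesStronglyCartesian (𝒳 := overCat U) (𝒴 := 𝒳))) ⋙ evalAtId 𝒳 U).IsEquivalence := by
  let K := (ObjectProperty.ι (PreservesStronglyCartesian (𝒳 := overCat U) (𝒴 := 𝒳))) ⋙ evalAtId 𝒳 U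
  haveI : K.Faithful := ⟨fun {G H α β} e =>
    InducedCategory.hom_ext (yoneda_ext ((psc_iff H.obj).2 H.property) α.hom β.hom (congrArg Subtype.val e))⟩
  haveI : K.Full := ⟨fun {G H} θ => by
    obtain ⟨α, hα⟩ := yoneda_full (G := G.obj) ((psc_iff H.obj).2 H.property) θ.1 (Vert.of_lift θ.2)
    exact ⟨ObjectProperty.homMk α, Subtype.ext hα⟩⟩
  haveI : K.EssSurj := ⟨fun x => by
    obtain ⟨G, e, hG, he⟩ := yoneda_ess h𝒳 x.1 x.2
    exact ⟨⟨G, (psc_iff G).1 hG⟩, ⟨⟨⟨e.hom, he.lift (pobj G _)⟩, ⟨e.inv, (Vert.symm he).lift x.2⟩,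
      Subtype.ext e.hom_inv_id, Subtype.ext e.inv_hom_id⟩⟩⟩⟩
  show K.IsEquivalence
  exact {}

end Yoneda

section Inertia

variable {𝒳 : BasedCategory.{v₂, u₂} C} {𝒴 : BasedCategory.{v₃, u₃} C} {F : 𝒳 ⥤ᵇ 𝒴}

theorem aut_vert (z : InertiaObj F) : Vert 𝒳.p z.aut.hom :=
  Vert.reflect (F := F) (by rw [z.map_aut]; exact Vert.id _)

theorem sc_inertia {y x : InertiaObj F} (m : y ⟶ x) (h : 𝒳.p.IsStronglyCartesian (𝒳.p.map m.hom) m.hom) :
    (inertia F).p.IsStronglyCartesian ((inertia F).p.map m) m := by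
  refine sc_mk m (fun {z} ψ g hg => ?_) (fun {z} χ χ' e1 e2 => ?_)
  · obtain ⟨χ, h1, h2⟩ := sc_exists h ψ.hom g hg
    refine ⟨⟨χ, sc_ext h ?_ ?_⟩, h1, InertiaObj.hom_ext h2⟩
    · rw [Functor.map_comp, Functor.map_comp, (aut_vert z).map_eq, (aut_vert y).map_eq, eqToHom_refl, eqToHom_refl]
      exact (Category.id_comp _).trans (Category.comp_id _).symm
    · rw [Category.assoc, h2, Category.assoc, m.comm, ← Category.assoc, h2, ψ.comm]
  · exact InertiaObj.hom_ext (sc_ext h e1 (congrArg InertiaObj.Hom.hom e2))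

theorem isFibered_inertia (h𝒳 : 𝒳.p.IsFibered) (hF : PSC F) : (inertia F).p.IsFibered := by
  refine isFibered_mk fun {z V} f => ?_
  obtain ⟨y, φ, ey, hφ, hs⟩ := exists_sc h𝒳 (x := z.pt) f
  have key : ∀ a : z.pt ⟶ z.pt, Vert 𝒳.p a → F.map a = 𝟙 _ →
      ∃ b : y ⟶ y, Vert 𝒳.p b ∧ b ≫ φ = φ ≫ a ∧ F.map b = 𝟙 _ := by
    intro a ha haF
    obtain ⟨b, hb1, hb2⟩ := sc_exists hs (φ ≫ a) (𝟙 _) (by
      rw [Functor.map_comp, ha.map_eq, eqToHom_refl, Category.comp_id, Category.id_comp])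
    refine ⟨b, ⟨rfl, by rw [hb1]; rfl⟩, hb2, sc_ext (hF φ hs) ?_ ?_⟩
    · rw [pmap, hb1]; simp
    · rw [← Functor.map_comp, hb2, Functor.map_comp, haF, Category.id_comp, Category.comp_id]
  obtain ⟨b, hb, hb2, hbF⟩ := key z.aut.hom (aut_vert z) z.map_aut
  obtain ⟨b', hb', hb2', -⟩ := key z.aut.inv (Vert.symm (aut_vert z))
    (by
      have := congrArg F.map z.aut.hom_inv_id
      rwa [Functor.map_comp, z.map_aut, Category.id_comp, Functor.map_id] at this)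
  let w : InertiaObj F :=
    ⟨y, ⟨b, b', sc_ext hs (by rw [Functor.map_comp, hb.map_eq, hb'.map_eq]; simp)
        (by rw [Category.assoc, hb2', reassoc_of% hb2, Iso.hom_inv_id, Category.comp_id, Category.id_comp]),
      sc_ext hs (by rw [Functor.map_comp, hb.map_eq, hb'.map_eq]; simp)
        (by rw [Category.assoc, hb2, reassoc_of% hb2', Iso.inv_hom_id, Category.comp_id, Category.id_comp])⟩, hbF⟩
  exact ⟨w, ⟨φ, hb2⟩, ey, hφ, sc_inertia _ hs⟩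

theorem isFibGrpd_inertia (h𝒳 : IsFibGrpd 𝒳.p) (hF : PSC F) : IsFibGrpd (inertia F).p := by
  have hfib := isFibered_inertia (isFibered_of_isFibGrpd h𝒳) hF
  refine isFibGrpd_mk (fun f => ?_) (fun m => sc_inertia m (h𝒳.isStronglyCartesian _))
  obtain ⟨y, φ, e, he, -⟩ := exists_sc hfib f
  exact ⟨y, φ, e, he⟩

theorem inertia_equiv :
    ∃ E : inertia F ⥤ᵇ fp (diag F) (diag F), IsEquivOver E ∧
      BasedFunctor.comp E (fpFst _ _) = inertiaToBase F ∧ BasedFunctor.comp E (fpSnd _ _) = inertiaToBase F := by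
  let θ : ∀ z : InertiaObj F, (diag F).obj z.pt ≅ (diag F).obj z.pt := fun z =>
    fpIsoMk z.aut (Iso.refl _) (by
      show F.map z.aut.hom ≫ 𝟙 _ = 𝟙 _ ≫ F.map (𝟙 _)
      rw [z.map_aut, F.toFunctor.map_id])
  let E : inertia F ⥤ᵇ fp (diag F) (diag F) :=
    fpLift (inertiaToBase F) (inertiaToBase F)
      (isoMk (F := BasedFunctor.comp (inertiaToBase F) (diag F)) (G := BasedFunctor.comp (inertiaToBase F) (diag F))
        θ (fun {z z'} m => fp_ext m.comm.symm ((Category.comp_id _).trans (Category.id_comp _).symm))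
        (fun z => aut_vert z))
  refine ⟨E, isEquivOver_mk E (fun {z z'} ψ => ?_) (fun φ φ' h => InertiaObj.hom_ext (congrArg (fun m => m.hom.fst) h))
    (fun η => ?_), rfl, rfl⟩
  · have h1 : ψ.hom.fst ≫ z'.aut.hom = z.aut.hom ≫ ψ.hom.snd := congrArg (fun m => m.hom.fst) ψ.hom.w
    have h2 : ψ.hom.fst ≫ 𝟙 z'.pt = 𝟙 z.pt ≫ ψ.hom.snd := congrArg (fun m => m.hom.snd) ψ.hom.w
    have h3 : ψ.hom.fst = ψ.hom.snd := (Category.comp_id _).symm.trans (h2.trans (Category.id_comp _))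
    exact ⟨⟨ψ.hom.fst, (congrArg (fun m => z.aut.hom ≫ m) h3).trans h1.symm⟩, fp_ext rfl h3⟩
  · let i : η.obj.fst ≅ η.obj.snd := (CategoricalPullback.π₁ _ _).mapIso ((fpProp _ _).ι.mapIso η.obj.iso)
    let j : η.obj.fst ≅ η.obj.snd := (CategoricalPullback.π₂ _ _).mapIso ((fpProp _ _).ι.mapIso η.obj.iso)
    have hw : F.map i.hom ≫ 𝟙 _ = 𝟙 _ ≫ F.map j.hom := η.obj.iso.hom.hom.w
    rw [Category.comp_id, Category.id_comp] at hw
    let z : InertiaObj F := ⟨η.obj.fst, i ≪≫ j.symm, by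
      rw [Iso.trans_hom, Functor.map_comp, hw, ← Functor.map_comp, Iso.symm_hom, Iso.hom_inv_id, Functor.map_id]⟩
    refine ⟨z, fpIsoMk (Iso.refl _) j (fp_ext ?_ ?_), Vert.id (p := 𝒳.p) _⟩
    · show 𝟙 η.obj.fst ≫ i.hom = (i.hom ≫ j.inv) ≫ j.hom
      rw [Category.id_comp, Category.assoc, Iso.inv_hom_id, Category.comp_id]
    · show 𝟙 η.obj.fst ≫ j.hom = 𝟙 _ ≫ j.hom
      rfl

theorem diag_equiv_iff (h𝒳 : IsFibGrpd 𝒳.p) (h𝒴 : IsFibGrpd 𝒴.p) (G : 𝒳 ⥤ᵇ 𝒴) :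
    (G.toFunctor.Full ∧ G.toFunctor.Faithful) ↔ IsEquivOver (diag G) := by
  constructor
  · rintro ⟨hf, hft⟩
    refine isEquivOver_mk (diag G) (fun {a b} ψ => ?_) (fun φ φ' h => congrArg (fun m => m.hom.fst) h) (fun η => ?_)
    · have hw : G.map ψ.hom.fst ≫ 𝟙 _ = 𝟙 _ ≫ G.map ψ.hom.snd := ψ.hom.w
      rw [Category.comp_id, Category.id_comp] at hw
      exact ⟨ψ.hom.fst, fp_ext rfl (G.toFunctor.map_injective hw)⟩
    · let e : η.obj.fst ≅ η.obj.snd := G.toFunctor.preimageIso η.obj.iso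
      refine ⟨η.obj.fst, fpIsoMk (Iso.refl _) e ?_, Vert.id (p := 𝒳.p) _⟩
      show G.map (𝟙 _) ≫ η.obj.iso.hom = 𝟙 _ ≫ G.map (G.toFunctor.preimage η.obj.iso.hom)
      rw [G.toFunctor.map_id, G.toFunctor.map_preimage]
  · intro h
    obtain ⟨h1, h2, h3⟩ := equiv_props h
    refine ⟨⟨fun {a b} ψ => ?_⟩, ⟨fun {a b φ φ'} e => ?_⟩⟩
    · obtain ⟨c, χ, ec, hχ⟩ := exists_lift' h𝒳 (x := b) (eqToHom (pobj G a).symm ≫ 𝒴.p.map ψ ≫ eqToHom (pobj G b))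
      obtain ⟨w, hw1, hw2⟩ := sc_exists (h𝒴.isStronglyCartesian (G.map χ)) ψ
        (eqToHom ((pobj G a).trans (ec.symm.trans (pobj G c).symm))) (by rw [pmap, hχ]; simp)
      haveI := isIso_of_vert h𝒴 (φ := w) ⟨_, hw1⟩
      obtain ⟨ξ, e, -⟩ := h3 (fpMk a c (asIso w) ⟨_, hw1⟩)
      let e1 : ξ ≅ a := (CategoricalPullback.π₁ _ _).mapIso ((fpProp _ _).ι.mapIso e)
      let e2 : ξ ≅ c := (CategoricalPullback.π₂ _ _).mapIso ((fpProp _ _).ι.mapIso e)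
      have hw3 : G.map e1.hom ≫ w = 𝟙 _ ≫ G.map e2.hom := e.hom.hom.w
      rw [Category.id_comp] at hw3
      refine ⟨e1.inv ≫ e2.hom ≫ χ, ?_⟩
      rw [Functor.map_comp, Functor.map_comp, ← hw3, Category.assoc, hw2, ← Category.assoc, ← Functor.map_comp,
        Iso.inv_hom_id, Functor.map_id, Category.id_comp]
    · obtain ⟨χ, hχ⟩ := h1 (fpHom (x := (diag G).obj a) (y := (diag G).obj b) φ φ' (by
        show G.map φ ≫ 𝟙 _ = 𝟙 _ ≫ G.map φ'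
        rw [Category.comp_id, Category.id_comp, e]))
      exact (congrArg (fun m => m.hom.fst) hχ).symm.trans (congrArg (fun m => m.hom.snd) hχ)

end Inertia

end Groth.Agent.LeadFibCat
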