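import Groth.Prelude.Def_FibCat2
import Groth.Agent.FibClv.EquivOver
import Groth.Agent.FibClv.DiscFib

/-! Vertical morphisms, fibred in groupoids, fibre products, representability. -/

set_option autoImplicit false
set_option backward.isDefEq.respectTransparency false
set_option backward.isDefEq.respectTransparency.types false

universe v₂ v₃ v₄ v₅ u₂ u₃ u₄ u₅ v u

open CategoryTheory CategoryTheory.Limits CategoryTheory.Functor FibCat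

namespace Groth.Agent.LeadFibCat

section Functor

variable {C : Type u} [Category.{v} C] {A : Type u₂} [Category.{v₂} A] (p : A ⥤ C)

/-- a morphism lying over an identity -/
def Vert {a b : A} (φ : a ⟶ b) : Prop := ∃ h : p.obj a = p.obj b, p.map φ = eqToHom h

variable {p}

theorem Vert.id (a : A) : Vert p (𝟙 a) := ⟨rfl, by simp⟩

theorem Vert.comp {a b c : A} {φ : a ⟶ b} {ψ : b ⟶ c} (h : Vert p φ) (h' : Vert p ψ) : Vert p (φ ≫ ψ) := by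
  obtain ⟨e, he⟩ := h
  obtain ⟨e', he'⟩ := h'
  exact ⟨e.trans e', by simp [he, he']⟩

theorem Vert.of_inv {a b : A} {φ : a ⟶ b} {ψ : b ⟶ a} (h : Vert p φ) (h₁ : φ ≫ ψ = 𝟙 a) : Vert p ψ := by
  obtain ⟨e, he⟩ := h
  refine ⟨e.symm, ?_⟩
  have := congrArg p.map h₁
  rw [p.map_comp, p.map_id, he] at this
  rw [← cancel_epi (eqToHom e), this]
  simp

theorem Vert.symm {a b : A} {e : a ≅ b} (h : Vert p e.hom) : Vert p e.inv := h.of_inv e.hom_inv_id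

theorem Vert.symm' {a b : A} {e : a ≅ b} (h : Vert p e.inv) : Vert p e.hom := h.of_inv e.inv_hom_id

theorem Vert.eqToHom {a b : A} (h : a = b) : Vert p (eqToHom h) := by subst h; exact Vert.id a

theorem Vert.of_lift {a b : A} {φ : a ⟶ b} {U : C} (h : p.IsHomLift (𝟙 U) φ) : Vert p φ := by
  refine ⟨(IsHomLift.domain_eq p (𝟙 U) φ).trans (IsHomLift.codomain_eq p (𝟙 U) φ).symm, ?_⟩
  rw [IsHomLift.fac' p (𝟙 U) φ]
  simp

theorem Vert.lift {a b : A} {φ : a ⟶ b} (h : Vert p φ) {U : C} (ha : p.obj a = U) : p.IsHomLift (𝟙 U) φ := by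
  obtain ⟨e, he⟩ := h
  subst ha
  exact IsHomLift.of_fac' p _ _ rfl e.symm (by simp [he])

theorem Vert.map_eq {a b : A} {φ : a ⟶ b} (h : Vert p φ) : p.map φ = CategoryTheory.eqToHom h.1 := h.2

/-- all morphisms over `g` into `x` through `φ` -/
theorem sc_exists {y x : A} {φ : y ⟶ x} (hφ : p.IsStronglyCartesian (p.map φ) φ) {z : A} (ψ : z ⟶ x)
    (g : p.obj z ⟶ p.obj y) (hg : g ≫ p.map φ = p.map ψ) : ∃ χ : z ⟶ y, p.map χ = g ∧ χ ≫ φ = ψ := by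
  haveI : p.IsHomLift (g ≫ p.map φ) ψ := by rw [hg]; infer_instance
  obtain ⟨χ, ⟨hχ, hfac⟩, -⟩ := IsStronglyCartesian.universal_property' (p := p) (f := p.map φ) (φ := φ) g ψ
  exact ⟨χ, (IsHomLift.eq_of_isHomLift p g χ).symm, hfac⟩

theorem sc_ext {y x : A} {φ : y ⟶ x} (hφ : p.IsStronglyCartesian (p.map φ) φ) {z : A} {χ χ' : z ⟶ y}
    (h : p.map χ = p.map χ') (h' : χ ≫ φ = χ' ≫ φ) : χ = χ' := by
  haveI : p.IsHomLift (p.map χ) χ' := by rw [h]; infer_instance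
  exact IsStronglyCartesian.ext p (p.map φ) φ (p.map χ) h'

theorem sc_mk {y x : A} (φ : y ⟶ x)
    (hex : ∀ {z : A} (ψ : z ⟶ x) (g : p.obj z ⟶ p.obj y), g ≫ p.map φ = p.map ψ →
      ∃ χ : z ⟶ y, p.map χ = g ∧ χ ≫ φ = ψ)
    (hext : ∀ {z : A} (χ χ' : z ⟶ y), p.map χ = p.map χ' → χ ≫ φ = χ' ≫ φ → χ = χ') :
    p.IsStronglyCartesian (p.map φ) φ := by
  constructor
  intro z g ψ hψ
  obtain ⟨χ, h1, h2⟩ := hex ψ g (IsHomLift.eq_of_isHomLift p _ ψ)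
  refine ⟨χ, ⟨by rw [← h1]; infer_instance, h2⟩, fun χ' ⟨hχ', hfac⟩ => hext χ' χ ?_ (hfac.trans h2.symm)⟩
  rw [h1, IsHomLift.eq_of_isHomLift p g χ']

/-- strongly cartesian over any name of the base map -/
theorem sc_of {R S : C} (f : R ⟶ S) {y x : A} (φ : y ⟶ x) [p.IsHomLift f φ]
    (h : p.IsStronglyCartesian (p.map φ) φ) : p.IsStronglyCartesian f φ := by
  obtain rfl := IsHomLift.domain_eq p f φ
  obtain rfl := IsHomLift.codomain_eq p f φ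
  rw [IsHomLift.eq_of_isHomLift p f φ]
  exact h

theorem sc_map_of {R S : C} (f : R ⟶ S) {y x : A} (φ : y ⟶ x) (h : p.IsStronglyCartesian f φ) :
    p.IsStronglyCartesian (p.map φ) φ := by
  obtain rfl := IsHomLift.domain_eq p f φ
  obtain rfl := IsHomLift.codomain_eq p f φ
  rw [← IsHomLift.eq_of_isHomLift p f φ]
  exact h

theorem sc_of_vert_iso {a b : A} (e : a ≅ b) : p.IsStronglyCartesian (p.map e.hom) e.hom := inferInstance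

/-- the comparison between two strongly cartesian lifts -/
theorem sc_iso {y y' x : A} {φ : y ⟶ x} {φ' : y' ⟶ x} (hφ : p.IsStronglyCartesian (p.map φ) φ)
    (hφ' : p.IsStronglyCartesian (p.map φ') φ') (e : p.obj y = p.obj y')
    (h : p.map φ = eqToHom e ≫ p.map φ') :
    ∃ θ : y ≅ y', Vert p θ.hom ∧ θ.hom ≫ φ' = φ := by
  obtain ⟨χ, h1, h2⟩ := sc_exists hφ' φ (eqToHom e) h.symm
  obtain ⟨χ', h1', h2'⟩ := sc_exists hφ φ' (eqToHom e.symm) (by rw [h]; simp)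
  refine ⟨⟨χ, χ', ?_, ?_⟩, ⟨e, h1⟩, h2⟩
  · exact sc_ext hφ (by simp [h1, h1']) (by simp [h2', h2])
  · exact sc_ext hφ' (by simp [h1, h1']) (by simp [h2, h2'])

theorem exists_lift' (h : IsFibGrpd p) {x : A} {V : C} (f : V ⟶ p.obj x) :
    ∃ (y : A) (φ : y ⟶ x) (e : p.obj y = V), p.map φ = CategoryTheory.eqToHom e ≫ f := by
  obtain ⟨y, φ, hφ⟩ := h.exists_lift f
  exact ⟨y, φ, IsHomLift.domain_eq p f φ, by rw [IsHomLift.fac' p f φ]; simp⟩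

theorem exists_sc (hp : p.IsFibered) {x : A} {V : C} (f : V ⟶ p.obj x) :
    ∃ (y : A) (φ : y ⟶ x) (e : p.obj y = V),
      p.map φ = CategoryTheory.eqToHom e ≫ f ∧ p.IsStronglyCartesian (p.map φ) φ := by
  obtain ⟨y, φ, hφ, hs⟩ := FibClv.DiscFib.exists_strongly p f
  exact ⟨y, φ, IsHomLift.domain_eq p f φ, by rw [IsHomLift.fac' p f φ]; simp, hs⟩

theorem isFibered_mk
    (h : ∀ {x : A} {V : C} (f : V ⟶ p.obj x), ∃ (y : A) (φ : y ⟶ x) (e : p.obj y = V),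
      p.map φ = CategoryTheory.eqToHom e ≫ f ∧ p.IsStronglyCartesian (p.map φ) φ) : p.IsFibered := by
  refine IsFibered.of_exists_isStronglyCartesian fun a R f => ?_
  obtain ⟨y, φ, e, he, hs⟩ := h f
  haveI : p.IsHomLift f φ := IsHomLift.of_fac' p f φ e rfl (by simp [he])
  exact ⟨y, φ, sc_of f φ hs⟩

theorem isFibGrpd_mk
    (hl : ∀ {x : A} {V : C} (f : V ⟶ p.obj x), ∃ (y : A) (φ : y ⟶ x) (e : p.obj y = V),
      p.map φ = CategoryTheory.eqToHom e ≫ f)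
    (hs : ∀ {y x : A} (φ : y ⟶ x), p.IsStronglyCartesian (p.map φ) φ) : IsFibGrpd p where
  exists_lift f := by
    obtain ⟨y, φ, e, he⟩ := hl f
    exact ⟨y, φ, IsHomLift.of_fac' p f φ e rfl (by simp [he])⟩
  isStronglyCartesian φ := hs φ

theorem isFibered_of_isFibGrpd (h : IsFibGrpd p) : p.IsFibered :=
  isFibered_mk fun f => by
    obtain ⟨y, φ, e, he⟩ := exists_lift' h f
    exact ⟨y, φ, e, he, h.isStronglyCartesian φ⟩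

theorem isIso_of_vert (h : IsFibGrpd p) {a b : A} {φ : a ⟶ b} (hφ : Vert p φ) : IsIso φ := by
  haveI := h.isStronglyCartesian φ
  haveI : IsIso (p.map φ) := by rw [hφ.map_eq]; infer_instance
  exact IsStronglyCartesian.isIso_of_base_isIso p (p.map φ) φ

end Functor

section Based

variable {C : Type u} [Category.{v} C] {𝒳 : BasedCategory.{v₂, u₂} C} {𝒴 : BasedCategory.{v₃, u₃} C}
  {𝒮 : BasedCategory.{v₄, u₄} C}

theorem pobj (F : 𝒳 ⥤ᵇ 𝒴) (a : 𝒳.obj) : 𝒴.p.obj (F.obj a) = 𝒳.p.obj a := F.w_obj a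

theorem pmap (F : 𝒳 ⥤ᵇ 𝒴) {a b : 𝒳.obj} (φ : a ⟶ b) :
    𝒴.p.map (F.map φ) = eqToHom (pobj F a) ≫ 𝒳.p.map φ ≫ eqToHom (pobj F b).symm :=
  Functor.congr_hom F.w φ

theorem Vert.map {F : 𝒳 ⥤ᵇ 𝒴} {a b : 𝒳.obj} {φ : a ⟶ b} (h : Vert 𝒳.p φ) : Vert 𝒴.p (F.map φ) := by
  obtain ⟨e, he⟩ := h
  exact ⟨((pobj F a).trans e).trans (pobj F b).symm, by rw [pmap]; simp [he]⟩

theorem Vert.reflect {F : 𝒳 ⥤ᵇ 𝒴} {a b : 𝒳.obj} {φ : a ⟶ b} (h : Vert 𝒴.p (F.map φ)) : Vert 𝒳.p φ := by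
  obtain ⟨e, he⟩ := h
  refine ⟨((pobj F a).symm.trans e).trans (pobj F b), ?_⟩
  rw [pmap, eqToHom_comp_iff, comp_eqToHom_iff] at he
  simpa using he

theorem vert_app {F G : 𝒳 ⥤ᵇ 𝒴} (e : F ≅ G) (a : 𝒳.obj) :
    Vert 𝒴.p (((BasedNatTrans.forgetful _ _).mapIso e).app a).hom :=
  Vert.of_lift (BasedNatTrans.isHomLift' e.hom a)

/-- component isomorphism of an isomorphism of functors over the base -/
abbrev app {F G : 𝒳 ⥤ᵇ 𝒴} (e : F ≅ G) (a : 𝒳.obj) : F.obj a ≅ G.obj a :=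
  ((BasedNatTrans.forgetful _ _).mapIso e).app a

theorem app_naturality {F G : 𝒳 ⥤ᵇ 𝒴} (e : F ≅ G) {a b : 𝒳.obj} (φ : a ⟶ b) :
    F.map φ ≫ (app e b).hom = (app e a).hom ≫ G.map φ :=
  e.hom.toNatTrans.naturality φ

/-- make an isomorphism of functors over the base -/
def isoMk {F G : 𝒳 ⥤ᵇ 𝒴} (e : ∀ a, F.obj a ≅ G.obj a)
    (hn : ∀ {a b : 𝒳.obj} (φ : a ⟶ b), F.map φ ≫ (e b).hom = (e a).hom ≫ G.map φ)
    (hv : ∀ a, Vert 𝒴.p (e a).hom) : F ≅ G :=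
  BasedNatIso.mkNatIso (NatIso.ofComponents e (fun φ => hn φ)) (fun a => (hv a).lift (pobj F a))

theorem app_isoMk {F G : 𝒳 ⥤ᵇ 𝒴} (e : ∀ a, F.obj a ≅ G.obj a)
    (hn : ∀ {a b : 𝒳.obj} (φ : a ⟶ b), F.map φ ≫ (e b).hom = (e a).hom ≫ G.map φ)
    (hv : ∀ a, Vert 𝒴.p (e a).hom) (a : 𝒳.obj) : (app (isoMk e hn hv) a).hom = (e a).hom := rfl

/-- criterion for being an equivalence over the base -/
theorem isEquivOver_mk (F : 𝒳 ⥤ᵇ 𝒴) (hfull : ∀ {a b : 𝒳.obj} (ψ : F.obj a ⟶ F.obj b), ∃ φ, F.map φ = ψ)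
    (hfaith : ∀ {a b : 𝒳.obj} (φ φ' : a ⟶ b), F.map φ = F.map φ' → φ = φ')
    (hess : ∀ η : 𝒴.obj, ∃ (ξ : 𝒳.obj) (e : F.obj ξ ≅ η), Vert 𝒴.p e.hom) : IsEquivOver F := by
  haveI : F.toFunctor.Full := ⟨fun {a b} => hfull⟩
  haveI : F.toFunctor.Faithful := ⟨fun {a b φ φ'} h => hfaith φ φ' h⟩
  refine FibClv.EquivOver.isEquivOver_of F fun η => ?_
  obtain ⟨ξ, e, he⟩ := hess η
  exact ⟨ξ, e, he.lift (he.1)⟩

theorem equiv_props {F : 𝒳 ⥤ᵇ 𝒴} (h : IsEquivOver F) :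
    (∀ {a b : 𝒳.obj} (ψ : F.obj a ⟶ F.obj b), ∃ φ, F.map φ = ψ) ∧
    (∀ {a b : 𝒳.obj} (φ φ' : a ⟶ b), F.map φ = F.map φ' → φ = φ') ∧
    ∀ η : 𝒴.obj, ∃ (ξ : 𝒳.obj) (e : F.obj ξ ≅ η), Vert 𝒴.p e.hom := by
  obtain ⟨⟨hf, hft⟩, hess⟩ := FibClv.EquivOver.fullyFaithful_essSurjOver F h
  haveI := hf
  haveI := hft
  refine ⟨fun {a b} ψ => F.toFunctor.map_surjective ψ, fun φ φ' e => F.toFunctor.map_injective e, fun η => ?_⟩
  obtain ⟨ξ, e, he⟩ := hess η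
  exact ⟨ξ, e, Vert.of_lift he⟩

theorem equiv_comp {F : 𝒳 ⥤ᵇ 𝒴} {G : 𝒴 ⥤ᵇ 𝒮} (hF : IsEquivOver F) (hG : IsEquivOver G) :
    IsEquivOver (BasedFunctor.comp F G) := by
  obtain ⟨f1, f2, f3⟩ := equiv_props hF
  obtain ⟨g1, g2, g3⟩ := equiv_props hG
  refine isEquivOver_mk _ (fun {a b} ψ => ?_) (fun φ φ' h => f2 _ _ (g2 _ _ h)) (fun η => ?_)
  · obtain ⟨ψ', hψ'⟩ := g1 (a := F.obj a) (b := F.obj b) ψ
    obtain ⟨φ, rfl⟩ := f1 ψ'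
    exact ⟨φ, hψ'⟩
  · obtain ⟨η', e, he⟩ := g3 η
    obtain ⟨ξ, e', he'⟩ := f3 η'
    exact ⟨ξ, G.toFunctor.mapIso e' ≪≫ e, (he'.map (F := G)).comp he⟩

theorem equiv_inv {F : 𝒳 ⥤ᵇ 𝒴} (h : IsEquivOver F) :
    ∃ G : 𝒴 ⥤ᵇ 𝒳, IsEquivOver G ∧ Nonempty (BasedFunctor.comp G F ≅ BasedFunctor.id 𝒴) := by
  obtain ⟨G, hu, hc⟩ := h
  exact ⟨G, ⟨F, hc, hu⟩, hc⟩

/-- strongly cartesian morphisms are reflected by fully faithful functors over the base -/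
theorem sc_reflect (F : 𝒳 ⥤ᵇ 𝒴) (hfull : ∀ {a b : 𝒳.obj} (ψ : F.obj a ⟶ F.obj b), ∃ φ, F.map φ = ψ)
    (hfaith : ∀ {a b : 𝒳.obj} (φ φ' : a ⟶ b), F.map φ = F.map φ' → φ = φ') {y x : 𝒳.obj} (φ : y ⟶ x)
    (h : 𝒴.p.IsStronglyCartesian (𝒴.p.map (F.map φ)) (F.map φ)) : 𝒳.p.IsStronglyCartesian (𝒳.p.map φ) φ := by
  refine sc_mk φ (fun {z} ψ g hg => ?_) (fun {z} χ χ' h1 h2 => ?_)
  · obtain ⟨χ', h1, h2⟩ := sc_exists h (F.map ψ) (eqToHom (pobj F z) ≫ g ≫ eqToHom (pobj F y).symm)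
      (by simp [pmap, reassoc_of% hg])
    obtain ⟨χ, rfl⟩ := hfull χ'
    refine ⟨χ, ?_, hfaith _ _ (by rw [Functor.map_comp]; exact h2)⟩
    rw [pmap, eqToHom_comp_iff, comp_eqToHom_iff] at h1
    simpa using h1
  · exact hfaith _ _ (sc_ext h (by rw [pmap, pmap, h1]) (by rw [← Functor.map_comp, ← Functor.map_comp, h2]))

theorem equiv_sc {F : 𝒳 ⥤ᵇ 𝒴} (h : IsEquivOver F) {y x : 𝒳.obj} (φ : y ⟶ x)
    (hφ : 𝒳.p.IsStronglyCartesian (𝒳.p.map φ) φ) : 𝒴.p.IsStronglyCartesian (𝒴.p.map (F.map φ)) (F.map φ) := by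
  haveI := hφ
  exact sc_map_of _ _ (FibClv.EquivOver.isStronglyCartesian_map F h (𝒳.p.map φ) φ)

theorem isFibered_of_equiv {F : 𝒳 ⥤ᵇ 𝒴} (h : IsEquivOver F) (h𝒳 : 𝒳.p.IsFibered) : 𝒴.p.IsFibered := by
  obtain ⟨h1, h2, h3⟩ := equiv_props h
  refine isFibered_mk fun {η V} f => ?_
  obtain ⟨ξ, e, he, he'⟩ := h3 η
  obtain ⟨y, φ, ey, hφ, hs⟩ := exists_sc h𝒳 (x := ξ) (f ≫ eqToHom (he.symm.trans (pobj F ξ)))
  refine ⟨F.obj y, F.map φ ≫ e.hom, (pobj F y).trans ey, ?_, ?_⟩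
  · rw [Functor.map_comp, pmap, hφ, he']
    simp
  · haveI := equiv_sc h φ hs
    haveI : 𝒴.p.IsStronglyCartesian (𝒴.p.map e.hom) e.hom := sc_of_vert_iso e
    have : 𝒴.p.IsStronglyCartesian (𝒴.p.map (F.map φ) ≫ 𝒴.p.map e.hom) (F.map φ ≫ e.hom) := inferInstance
    rwa [← Functor.map_comp] at this

theorem isFibGrpd_of_equiv' {F : 𝒳 ⥤ᵇ 𝒴} (h : IsEquivOver F) (h𝒴 : IsFibGrpd 𝒴.p) : IsFibGrpd 𝒳.p := by
  obtain ⟨h1, h2, -⟩ := equiv_props h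
  obtain ⟨G, hG, -⟩ := equiv_inv h
  have hfib := isFibered_of_equiv hG (isFibered_of_isFibGrpd h𝒴)
  refine isFibGrpd_mk (fun f => ?_) (fun φ => sc_reflect F h1 h2 φ (h𝒴.isStronglyCartesian _))
  obtain ⟨y, φ, e, he, -⟩ := exists_sc hfib f
  exact ⟨y, φ, e, he⟩

theorem isFibGrpd_of_equiv {F : 𝒳 ⥤ᵇ 𝒴} (h : IsEquivOver F) (h𝒳 : IsFibGrpd 𝒳.p) : IsFibGrpd 𝒴.p := by
  obtain ⟨G, hG, -⟩ := equiv_inv h
  exact isFibGrpd_of_equiv' hG h𝒳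

end Based

section FibreProduct

variable {C : Type u} [Category.{v} C] {𝒳 : BasedCategory.{v₂, u₂} C} {𝒴 : BasedCategory.{v₃, u₃} C}
  {𝒮 : BasedCategory.{v₄, u₄} C} {F : 𝒳 ⥤ᵇ 𝒮} {G : 𝒴 ⥤ᵇ 𝒮}

/-- object of the fibre product -/
def fpMk (x : 𝒳.obj) (y : 𝒴.obj) (e : F.obj x ≅ G.obj y) (he : Vert 𝒮.p e.hom) : (fp F G).obj :=
  ⟨{ fst := x, snd := y, iso := e }, he.lift (pobj F x)⟩

theorem fp_vert (x : (fp F G).obj) : Vert 𝒮.p x.obj.iso.hom := Vert.of_lift x.property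

/-- morphism of the fibre product -/
def fpHom {x y : (fp F G).obj} (a : x.obj.fst ⟶ y.obj.fst) (b : x.obj.snd ⟶ y.obj.snd)
    (w : F.map a ≫ y.obj.iso.hom = x.obj.iso.hom ≫ G.map b) : x ⟶ y :=
  ObjectProperty.homMk { fst := a, snd := b, w := w }

@[simp] theorem fpHom_fst {x y : (fp F G).obj} (a : x.obj.fst ⟶ y.obj.fst) (b : x.obj.snd ⟶ y.obj.snd)
    (w : F.map a ≫ y.obj.iso.hom = x.obj.iso.hom ≫ G.map b) : (fpHom a b w).hom.fst = a := rfl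

@[simp] theorem fpHom_snd {x y : (fp F G).obj} (a : x.obj.fst ⟶ y.obj.fst) (b : x.obj.snd ⟶ y.obj.snd)
    (w : F.map a ≫ y.obj.iso.hom = x.obj.iso.hom ≫ G.map b) : (fpHom a b w).hom.snd = b := rfl

theorem fp_ext {x y : (fp F G).obj} {f g : x ⟶ y} (h₁ : f.hom.fst = g.hom.fst) (h₂ : f.hom.snd = g.hom.snd) :
    f = g := by
  apply ObjectProperty.hom_ext
  exact CategoricalPullback.hom_ext h₁ h₂

theorem fp_snd_obj (x : (fp F G).obj) : 𝒴.p.obj x.obj.snd = 𝒳.p.obj x.obj.fst :=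
  (pobj G _).symm.trans ((fp_vert x).1.symm.trans (pobj F _))

theorem fp_snd_map {x y : (fp F G).obj} (f : x ⟶ y) :
    𝒴.p.map f.hom.snd = eqToHom (fp_snd_obj x) ≫ 𝒳.p.map f.hom.fst ≫ eqToHom (fp_snd_obj y).symm :=
  IsHomLift.fac' 𝒴.p ((fp F G).p.map f) f.hom.snd

/-- vertical isomorphism in the fibre product -/
def fpIsoMk {x y : (fp F G).obj} (a : x.obj.fst ≅ y.obj.fst) (b : x.obj.snd ≅ y.obj.snd)
    (w : F.map a.hom ≫ y.obj.iso.hom = x.obj.iso.hom ≫ G.map b.hom) : x ≅ y :=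
  (fpProp F G).isoMk (CategoricalPullback.mkIso a b w)

theorem fpIsoMk_vert {x y : (fp F G).obj} (a : x.obj.fst ≅ y.obj.fst) (b : x.obj.snd ≅ y.obj.snd)
    (w : F.map a.hom ≫ y.obj.iso.hom = x.obj.iso.hom ≫ G.map b.hom) (ha : Vert 𝒳.p a.hom) :
    Vert (fp F G).p (fpIsoMk a b w).hom := ha

/-- strongly cartesian morphisms of the fibre product -/
theorem sc_fp {x y : (fp F G).obj} (φ : x ⟶ y)
    (h1 : 𝒳.p.IsStronglyCartesian (𝒳.p.map φ.hom.fst) φ.hom.fst)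
    (h2 : 𝒴.p.IsStronglyCartesian (𝒴.p.map φ.hom.snd) φ.hom.snd)
    (h3 : 𝒮.p.IsStronglyCartesian (𝒮.p.map (G.map φ.hom.snd)) (G.map φ.hom.snd)) :
    (fp F G).p.IsStronglyCartesian ((fp F G).p.map φ) φ := by
  refine sc_mk φ (fun {z} ψ g hg => ?_) (fun {z} χ χ' e1 e2 => ?_)
  · obtain ⟨a, ha1, ha2⟩ := sc_exists h1 ψ.hom.fst g hg
    obtain ⟨b, hb1, hb2⟩ := sc_exists h2 ψ.hom.snd (eqToHom (fp_snd_obj z) ≫ g ≫ eqToHom (fp_snd_obj x).symm)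
      (by
        have hg' : g ≫ 𝒳.p.map φ.hom.fst = 𝒳.p.map ψ.hom.fst := hg
        simp [fp_snd_map, reassoc_of% hg'])
    refine ⟨fpHom a b (sc_ext h3 ?_ ?_), ha1, fp_ext ha2 hb2⟩
    · simp [pmap, ha1, hb1, (fp_vert x).map_eq, (fp_vert z).map_eq]
    · rw [Category.assoc, ← φ.hom.w, ← Category.assoc, ← Functor.map_comp, ha2, Category.assoc,
        ← Functor.map_comp, hb2]
      exact ψ.hom.w
  · have e1' : 𝒳.p.map χ.hom.fst = 𝒳.p.map χ'.hom.fst := e1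
    refine fp_ext (sc_ext h1 e1' ?_) (sc_ext h2 ?_ ?_)
    · exact congrArg (fun m => m.hom.fst) e2
    · rw [fp_snd_map, fp_snd_map, e1']
    · exact congrArg (fun m => m.hom.snd) e2

/-- lifting in the fibre product -/
theorem exists_lift_fp (z : (fp F G).obj) {V : C} (f : V ⟶ 𝒳.p.obj z.obj.fst)
    {x : 𝒳.obj} {φ : x ⟶ z.obj.fst} (ex : 𝒳.p.obj x = V) (hφ : 𝒳.p.map φ = eqToHom ex ≫ f)
    {y : 𝒴.obj} {ψ : y ⟶ z.obj.snd} (ey : 𝒴.p.obj y = V)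
    (hψ : 𝒴.p.map ψ = eqToHom ey ≫ f ≫ eqToHom (fp_snd_obj z).symm)
    (h3 : 𝒮.p.IsStronglyCartesian (𝒮.p.map (F.map φ)) (F.map φ))
    (h4 : 𝒮.p.IsStronglyCartesian (𝒮.p.map (G.map ψ)) (G.map ψ)) :
    ∃ (w : (fp F G).obj) (θ : w ⟶ z) (hx : w.obj.fst = x) (hy : w.obj.snd = y),
      θ.hom.fst = eqToHom hx ≫ φ ∧ θ.hom.snd = eqToHom hy ≫ ψ := by
  haveI := h3
  haveI : 𝒮.p.IsStronglyCartesian (𝒮.p.map z.obj.iso.hom) z.obj.iso.hom := sc_of_vert_iso _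
  have h5 : 𝒮.p.IsStronglyCartesian (𝒮.p.map (F.map φ ≫ z.obj.iso.hom)) (F.map φ ≫ z.obj.iso.hom) := by
    rw [Functor.map_comp]; infer_instance
  obtain ⟨θ, hθ, hθ'⟩ := sc_iso h5 h4 ((pobj F x).trans (ex.trans (ey.symm.trans (pobj G y).symm)))
    (by simp [pmap, hφ, hψ, (fp_vert z).map_eq])
  exact ⟨fpMk x y θ hθ, fpHom φ ψ hθ'.symm, rfl, rfl, (Category.id_comp _).symm, (Category.id_comp _).symm⟩

theorem isFibered_fp (h𝒳 : 𝒳.p.IsFibered) (h𝒴 : 𝒴.p.IsFibered)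
    (hF : ∀ {a b : 𝒳.obj} (φ : a ⟶ b), 𝒳.p.IsStronglyCartesian (𝒳.p.map φ) φ →
      𝒮.p.IsStronglyCartesian (𝒮.p.map (F.map φ)) (F.map φ))
    (hG : ∀ {a b : 𝒴.obj} (φ : a ⟶ b), 𝒴.p.IsStronglyCartesian (𝒴.p.map φ) φ →
      𝒮.p.IsStronglyCartesian (𝒮.p.map (G.map φ)) (G.map φ)) : (fp F G).p.IsFibered := by
  refine isFibered_mk fun {z V} f => ?_
  obtain ⟨x, φ, ex, hφ, sφ⟩ := exists_sc h𝒳 (x := z.obj.fst) f
  obtain ⟨y, ψ, ey, hψ, sψ⟩ := exists_sc h𝒴 (x := z.obj.snd) (f ≫ eqToHom (fp_snd_obj z).symm)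
  obtain ⟨w, θ, hx, hy, h1, h2⟩ := exists_lift_fp z f ex hφ ey (by rw [hψ]) (hF φ sφ) (hG ψ sψ)
  subst hx hy
  simp only [eqToHom_refl, Category.id_comp] at h1 h2
  subst h1 h2
  exact ⟨w, θ, ex, hφ, sc_fp θ sφ sψ (hG _ sψ)⟩

theorem isFibGrpd_fp (h𝒳 : IsFibGrpd 𝒳.p) (h𝒴 : IsFibGrpd 𝒴.p) (h𝒮 : IsFibGrpd 𝒮.p) : IsFibGrpd (fp F G).p := by
  have hfib := isFibered_fp (F := F) (G := G) (isFibered_of_isFibGrpd h𝒳) (isFibered_of_isFibGrpd h𝒴)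
    (fun φ _ => h𝒮.isStronglyCartesian _) (fun φ _ => h𝒮.isStronglyCartesian _)
  refine isFibGrpd_mk (fun f => ?_)
    (fun φ => sc_fp φ (h𝒳.isStronglyCartesian _) (h𝒴.isStronglyCartesian _) (h𝒮.isStronglyCartesian _))
  obtain ⟨y, φ, e, he, -⟩ := exists_sc hfib f
  exact ⟨y, φ, e, he⟩

end FibreProduct

section Slice

variable {C : Type u} [Category.{v} C]

theorem isFibGrpd_overCat (U : C) : IsFibGrpd (overCat U).p := by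
  refine isFibGrpd_mk (fun {x V} f => ⟨Over.mk (f ≫ x.hom), Over.homMk f, rfl, (Category.id_comp _).symm⟩) (fun {y x} φ => ?_)
  refine sc_mk φ (fun {z} ψ g hg => ⟨Over.homMk g ?_, rfl, ?_⟩) (fun χ χ' h _ => Over.OverMorphism.ext h)
  · have hg' : g ≫ φ.left = ψ.left := hg
    rw [← Over.w φ, ← Category.assoc]
    exact (congrArg (· ≫ x.hom) hg').trans (Over.w ψ)
  · exact Over.OverMorphism.ext hg

theorem isFibGrpd_selfOver : IsFibGrpd (selfOver C).p :=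
  isFibGrpd_mk (fun {x V} f => ⟨V, f, rfl, (Category.id_comp _).symm⟩)
    (fun φ => sc_mk φ (fun ψ g hg => ⟨g, rfl, hg⟩) (fun χ χ' h _ => h))

theorem vert_over {U : C} {a b : Over U} (φ : a ⟶ b) (h : a.left = b.left) (e : φ.left = eqToHom h) :
    Vert (overCat U).p φ := ⟨h, e⟩

/-- the representability criterion -/
theorem isRepresentable_iff (𝒳 : BasedCategory.{v₂, u₂} C) :
    IsRepresentable 𝒳 ↔ IsFibGrpd 𝒳.p ∧ ∃ ξ : 𝒳.obj, ∀ ρ : 𝒳.obj, Nonempty (Unique (ρ ⟶ ξ)) := by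
  constructor
  · rintro ⟨U, F, hF⟩
    refine ⟨isFibGrpd_of_equiv' hF (isFibGrpd_overCat U), ?_⟩
    obtain ⟨h1, h2, h3⟩ := equiv_props hF
    obtain ⟨ξ, e, -⟩ := h3 (Over.mk (𝟙 U))
    refine ⟨ξ, fun ρ => ?_⟩
    obtain ⟨φ, hφ⟩ := h1 (Over.mkIdTerminal.from (F.obj ρ) ≫ e.inv)
    exact ⟨⟨⟨φ⟩, fun ψ => h2 _ _ (by
      rw [← cancel_mono e.hom]
      exact Over.mkIdTerminal.hom_ext _ _)⟩⟩
  · rintro ⟨hp, ξ, hξ⟩
    let t : ∀ ρ, ρ ⟶ ξ := fun ρ => (hξ ρ).some.default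
    have tu : ∀ {ρ : 𝒳.obj} (a b : ρ ⟶ ξ), a = b := fun {ρ} a b => by
      haveI := (hξ ρ).some; exact Subsingleton.elim a b
    let F : 𝒳 ⥤ᵇ overCat (𝒳.p.obj ξ) :=
      { toFunctor :=
          { obj := fun ρ => Over.mk (𝒳.p.map (t ρ))
            map := fun {a b} φ => Over.homMk (𝒳.p.map φ) (by simp [← 𝒳.p.map_comp, tu (φ ≫ t b) (t a)])
            map_id := fun a => Over.OverMorphism.ext (𝒳.p.map_id a)
            map_comp := fun φ ψ => Over.OverMorphism.ext (𝒳.p.map_comp φ ψ) }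
        w := rfl }
    refine ⟨_, F, isEquivOver_mk F (fun {a b} ψ => ?_) (fun {a b} φ φ' h => ?_) (fun η => ?_)⟩
    · obtain ⟨φ, h1, -⟩ := sc_exists (hp.isStronglyCartesian (t b)) (t a) ψ.left (Over.w ψ)
      exact ⟨φ, Over.OverMorphism.ext h1⟩
    · exact sc_ext (hp.isStronglyCartesian (t b)) (congrArg (fun m => m.left) h) (tu _ _)
    · obtain ⟨y, φ, e, he⟩ := exists_lift' hp (x := ξ) η.hom
      refine ⟨y, Over.isoMk (eqToIso e) ?_, vert_over _ e rfl⟩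
      show eqToHom e ≫ η.hom = 𝒳.p.map (t y)
      rw [tu (t y) φ, he]

theorem isRepresentable_of_equiv {𝒳 : BasedCategory.{v₂, u₂} C} {𝒴 : BasedCategory.{v₃, u₃} C}
    {F : 𝒳 ⥤ᵇ 𝒴} (hF : IsEquivOver F) : IsRepresentable 𝒳 ↔ IsRepresentable 𝒴 := by
  constructor
  · rintro ⟨U, E, hE⟩
    obtain ⟨G, hG, -⟩ := equiv_inv hF
    exact ⟨U, BasedFunctor.comp G E, equiv_comp hG hE⟩
  · rintro ⟨U, E, hE⟩
    exact ⟨U, BasedFunctor.comp F E, equiv_comp hF hE⟩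

end Slice

end Groth.Agent.LeadFibCat
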