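import Groth.Agent.Lead.FibCat.Basic

/-! Cartesian morphisms, projections of fibre products. -/

set_option autoImplicit false
set_option backward.isDefEq.respectTransparency false
set_option backward.isDefEq.respectTransparency.types false

universe v₂ v₃ v₄ v₅ u₂ u₃ u₄ u₅ v u

open CategoryTheory CategoryTheory.Limits CategoryTheory.Functor FibCat

namespace Groth.Agent.LeadFibCat

section Functor

variable {C : Type u} [Category.{v} C] {A : Type u₂} [Category.{v₂} A] {p : A ⥤ C}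

theorem c_exists {y x : A} {φ : y ⟶ x} (hφ : p.IsCartesian (p.map φ) φ) {z : A} (ψ : z ⟶ x)
    (e : p.obj z = p.obj y) (h : p.map ψ = eqToHom e ≫ p.map φ) :
    ∃ χ : z ⟶ y, Vert p χ ∧ χ ≫ φ = ψ := by
  haveI : p.IsHomLift (p.map φ) ψ := IsHomLift.of_fac' p _ _ e rfl (by simp [h])
  exact ⟨IsCartesian.map p (p.map φ) φ ψ, Vert.of_lift (U := p.obj y) inferInstance, IsCartesian.fac p (p.map φ) φ ψ⟩

theorem c_ext {y x : A} {φ : y ⟶ x} (hφ : p.IsCartesian (p.map φ) φ) {z : A} {χ χ' : z ⟶ y}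
    (h : Vert p χ) (h' : Vert p χ') (e : χ ≫ φ = χ' ≫ φ) : χ = χ' := by
  haveI := h.lift h.1
  haveI := h'.lift h.1
  exact IsCartesian.ext p (p.map φ) φ χ χ' e

theorem c_mk {y x : A} (φ : y ⟶ x)
    (hex : ∀ {z : A} (ψ : z ⟶ x) (e : p.obj z = p.obj y), p.map ψ = eqToHom e ≫ p.map φ →
      ∃ χ : z ⟶ y, Vert p χ ∧ χ ≫ φ = ψ)
    (hext : ∀ {z : A} (χ χ' : z ⟶ y), Vert p χ → Vert p χ' → χ ≫ φ = χ' ≫ φ → χ = χ') :
    p.IsCartesian (p.map φ) φ := by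
  constructor
  intro z ψ hψ
  obtain ⟨χ, h1, h2⟩ := hex ψ (IsHomLift.domain_eq p (p.map φ) ψ)
    (by rw [IsHomLift.fac' p (p.map φ) ψ]; simp)
  exact ⟨χ, ⟨h1.lift (IsHomLift.domain_eq p (p.map φ) ψ), h2⟩, fun χ' ⟨hl, hf⟩ =>
    hext χ' χ (Vert.of_lift hl) h1 (hf.trans h2.symm)⟩

theorem exists_cart (hp : p.IsPreFibered) {x : A} {V : C} (f : V ⟶ p.obj x) :
    ∃ (y : A) (φ : y ⟶ x) (e : p.obj y = V),
      p.map φ = eqToHom e ≫ f ∧ p.IsCartesian (p.map φ) φ := by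
  obtain ⟨y, φ, hφ⟩ := IsPreFibered.exists_isCartesian' (p := p) f
  refine ⟨y, φ, IsHomLift.domain_eq p f φ, by rw [IsHomLift.fac' p f φ]; simp, ?_⟩
  obtain rfl := IsHomLift.domain_eq p f φ
  rw [← IsHomLift.eq_of_isHomLift p f φ]
  exact hφ

theorem isPreFibered_mk
    (h : ∀ {x : A} {V : C} (f : V ⟶ p.obj x), ∃ (y : A) (φ : y ⟶ x) (e : p.obj y = V),
      p.map φ = eqToHom e ≫ f ∧ p.IsCartesian (p.map φ) φ) : p.IsPreFibered where
  exists_isCartesian' f := by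
    obtain ⟨y, φ, e, he, hc⟩ := h f
    refine ⟨y, φ, ?_⟩
    subst e
    rw [eqToHom_refl, Category.id_comp] at he
    exact he ▸ hc

end Functor

section Self

variable {C : Type u} [Category.{v} C] {𝒳 : BasedCategory.{v₂, u₂} C} {𝒴 : BasedCategory.{v₃, u₃} C}

theorem sc_self {R S : (selfOver C).obj} (φ : R ⟶ S) :
    (selfOver C).p.IsStronglyCartesian ((selfOver C).p.map φ) φ :=
  isFibGrpd_selfOver.isStronglyCartesian φ

/-- object of the product over the base -/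
def prodMk (x : 𝒳.obj) (y : 𝒴.obj) (h : 𝒳.p.obj x = 𝒴.p.obj y) : (fp (toSelf 𝒳) (toSelf 𝒴)).obj :=
  fpMk x y (eqToIso h) (Vert.eqToHom (p := (selfOver C).p) h)

theorem prod_iso_hom (x : (fp (toSelf 𝒳) (toSelf 𝒴)).obj) :
    x.obj.iso.hom = eqToHom (fp_snd_obj x).symm :=
  (fp_vert x).map_eq

/-- morphism of the product over the base -/
def prodHom {x y : (fp (toSelf 𝒳) (toSelf 𝒴)).obj} (a : x.obj.fst ⟶ y.obj.fst) (b : x.obj.snd ⟶ y.obj.snd)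
    (h : 𝒴.p.map b = eqToHom (fp_snd_obj x) ≫ 𝒳.p.map a ≫ eqToHom (fp_snd_obj y).symm) : x ⟶ y :=
  fpHom a b (by
    show 𝒳.p.map a ≫ y.obj.iso.hom = x.obj.iso.hom ≫ 𝒴.p.map b
    rw [prod_iso_hom, prod_iso_hom, h, ← Category.assoc (eqToHom (fp_snd_obj x).symm), eqToHom_trans]
    exact (Category.id_comp _).symm)

theorem prod_cart_iff {x y : (fp (toSelf 𝒳) (toSelf 𝒴)).obj} (φ : x ⟶ y) :
    (fp (toSelf 𝒳) (toSelf 𝒴)).p.IsCartesian ((fp (toSelf 𝒳) (toSelf 𝒴)).p.map φ) φ ↔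
      𝒳.p.IsCartesian (𝒳.p.map φ.hom.fst) φ.hom.fst ∧ 𝒴.p.IsCartesian (𝒴.p.map φ.hom.snd) φ.hom.snd := by
  constructor
  · intro h
    constructor
    · refine c_mk _ (fun {z} ψ e he => ?_) (fun {z} χ χ' hχ hχ' e => ?_)
      · let w := prodMk z x.obj.snd (e.trans (fp_snd_obj x).symm)
        obtain ⟨χ, h1, h2⟩ := c_exists h (z := w) (prodHom (x := w) ψ φ.hom.snd (by
          rw [fp_snd_map φ, he]; simp [w, prodMk, fpMk])) e he
        exact ⟨χ.hom.fst, h1, congrArg (fun m => m.hom.fst) h2⟩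
      · let w := prodMk z x.obj.snd (hχ.1.trans (fp_snd_obj x).symm)
        let a : w ⟶ x := prodHom (x := w) χ (𝟙 _) (by simp [w, prodMk, fpMk, hχ.map_eq])
        let a' : w ⟶ x := prodHom (x := w) χ' (𝟙 _) (by simp [w, prodMk, fpMk, hχ'.map_eq])
        exact congrArg (fun m => m.hom.fst) (c_ext h (χ := a) (χ' := a') hχ hχ' (fp_ext e rfl))
    · refine c_mk _ (fun {z} ψ e he => ?_) (fun {z} χ χ' hχ hχ' e => ?_)
      · let w := prodMk x.obj.fst z (e.trans (fp_snd_obj x)).symm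
        obtain ⟨χ, h1, h2⟩ := c_exists h (z := w) (prodHom (x := w) φ.hom.fst ψ (by
          rw [he, fp_snd_map φ]; simp [w, prodMk, fpMk])) rfl (by simp; rfl)
        refine ⟨χ.hom.snd, ⟨e, ?_⟩, congrArg (fun m => m.hom.snd) h2⟩
        rw [fp_snd_map χ, show 𝒳.p.map χ.hom.fst = _ from h1.map_eq]
        simp [w, prodMk, fpMk]
        exact (congrArg (fun q => eqToHom _ ≫ q) (Category.id_comp _)).trans (eqToHom_trans _ _)
      · let w := prodMk x.obj.fst z (hχ.1.trans (fp_snd_obj x)).symm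
        let a : w ⟶ x := prodHom (x := w) (𝟙 _) χ (by simp [w, prodMk, fpMk, hχ.map_eq])
        let a' : w ⟶ x := prodHom (x := w) (𝟙 _) χ' (by simp [w, prodMk, fpMk, hχ'.map_eq])
        exact congrArg (fun m => m.hom.snd)
          (c_ext h (χ := a) (χ' := a') (Vert.id (p := 𝒳.p) _) (Vert.id (p := 𝒳.p) _) (fp_ext rfl e))
  · rintro ⟨h1, h2⟩
    refine c_mk _ (fun {z} ψ e he => ?_) (fun {z} χ χ' hχ hχ' e => ?_)
    · obtain ⟨a, ha, ha'⟩ := c_exists h1 ψ.hom.fst e he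
      have he' : 𝒳.p.map ψ.hom.fst = eqToHom e ≫ 𝒳.p.map φ.hom.fst := he
      obtain ⟨b, hb, hb'⟩ := c_exists h2 ψ.hom.snd ((fp_snd_obj z).trans (e.trans (fp_snd_obj x).symm))
        (by rw [fp_snd_map φ, fp_snd_map ψ, he']; simp)
      refine ⟨prodHom a b ?_, ha, fp_ext ha' hb'⟩
      rw [hb.map_eq, ha.map_eq]; simp
    · refine fp_ext (c_ext h1 hχ hχ' (congrArg (fun m => m.hom.fst) e))
        (c_ext h2 ?_ ?_ (congrArg (fun m => m.hom.snd) e))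
      · exact ⟨(fp_snd_obj z).trans ((show 𝒳.p.obj z.obj.fst = 𝒳.p.obj x.obj.fst from hχ.1).trans (fp_snd_obj x).symm),
          by rw [fp_snd_map χ, show 𝒳.p.map χ.hom.fst = _ from hχ.map_eq]; simp⟩
      · exact ⟨(fp_snd_obj z).trans ((show 𝒳.p.obj z.obj.fst = 𝒳.p.obj x.obj.fst from hχ'.1).trans (fp_snd_obj x).symm),
          by rw [fp_snd_map χ', show 𝒳.p.map χ'.hom.fst = _ from hχ'.map_eq]; simp⟩

theorem isPreFibered_prod (h1 : 𝒳.p.IsPreFibered) (h2 : 𝒴.p.IsPreFibered) :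
    (fp (toSelf 𝒳) (toSelf 𝒴)).p.IsPreFibered := by
  refine isPreFibered_mk fun {z V} f => ?_
  obtain ⟨x, φ, ex, hφ, cφ⟩ := exists_cart h1 (x := z.obj.fst) f
  obtain ⟨y, ψ, ey, hψ, cψ⟩ := exists_cart h2 (x := z.obj.snd) (f ≫ eqToHom (fp_snd_obj z).symm)
  obtain ⟨w, θ, hx, hy, e1, e2⟩ :=
    exists_lift_fp z f ex hφ ey (by rw [hψ]) (sc_self _) (sc_self _)
  subst hx hy
  simp only [eqToHom_refl, Category.id_comp] at e1 e2
  subst e1 e2
  exact ⟨w, θ, ex, hφ, (prod_cart_iff θ).2 ⟨cφ, cψ⟩⟩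

end Self

section Projection

variable {C : Type u} [Category.{v} C] {𝒳 : BasedCategory.{v₂, u₂} C} {𝒴 : BasedCategory.{v₃, u₃} C}
  {𝒮 : BasedCategory.{v₄, u₄} C} {F : 𝒳 ⥤ᵇ 𝒮} {G : 𝒴 ⥤ᵇ 𝒮}

theorem isFibGrpd_fpFst (h𝒳 : IsFibGrpd 𝒳.p) (h𝒴 : IsFibGrpd 𝒴.p) (h𝒮 : IsFibGrpd 𝒮.p) :
    IsFibGrpd (fpFst F G).toFunctor := by
  have hfp := isFibGrpd_fp (F := F) (G := G) h𝒳 h𝒴 h𝒮
  refine isFibGrpd_mk (fun {z x} f => ?_) (fun {y z} φ => ?_)
  · obtain ⟨y, ψ, ey, hψ⟩ := exists_lift' h𝒴 (x := z.obj.snd) (𝒳.p.map f ≫ eqToHom (fp_snd_obj z).symm)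
    obtain ⟨w, θ, hx, hy, e1, -⟩ := exists_lift_fp z (𝒳.p.map f) (φ := f) rfl (Category.id_comp _).symm ey hψ
      (h𝒮.isStronglyCartesian _) (h𝒮.isStronglyCartesian _)
    exact ⟨w, θ, hx, e1⟩
  · refine sc_mk φ (fun {w} ψ g hg => ?_) (fun {w} χ χ' e1 e2 => ?_)
    · obtain ⟨χ, h1, h2⟩ := sc_exists (hfp.isStronglyCartesian φ) ψ (𝒳.p.map g)
        ((𝒳.p.map_comp _ _).symm.trans (congrArg 𝒳.p.map hg))
      refine ⟨χ, sc_ext (h𝒳.isStronglyCartesian φ.hom.fst) h1 ?_, h2⟩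
      exact (congrArg (fun m => m.hom.fst) h2).trans hg.symm
    · exact sc_ext (hfp.isStronglyCartesian φ) (congrArg 𝒳.p.map e1) e2

theorem isFibGrpd_fpSnd (h𝒳 : IsFibGrpd 𝒳.p) (h𝒴 : IsFibGrpd 𝒴.p) (h𝒮 : IsFibGrpd 𝒮.p) :
    IsFibGrpd (fpSnd F G).toFunctor := by
  have hfp := isFibGrpd_fp (F := F) (G := G) h𝒳 h𝒴 h𝒮
  refine isFibGrpd_mk (fun {z y} f => ?_) (fun {x z} φ => ?_)
  · obtain ⟨x, ψ, ex, hψ⟩ := exists_lift' h𝒳 (x := z.obj.fst) (𝒴.p.map f ≫ eqToHom (fp_snd_obj z))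
    obtain ⟨w, θ, hx, hy, -, e2⟩ := exists_lift_fp z (𝒴.p.map f ≫ eqToHom (fp_snd_obj z)) ex hψ (ψ := f) rfl
      (by simp) (h𝒮.isStronglyCartesian _) (h𝒮.isStronglyCartesian _)
    exact ⟨w, θ, hy, e2⟩
  · refine sc_mk φ (fun {w} ψ g hg => ?_) (fun {w} χ χ' e1 e2 => ?_)
    · have hg' : g ≫ φ.hom.snd = ψ.hom.snd := hg
      obtain ⟨χ, h1, h2⟩ := sc_exists (hfp.isStronglyCartesian φ) ψ
        (eqToHom (fp_snd_obj w).symm ≫ 𝒴.p.map g ≫ eqToHom (fp_snd_obj x)) (by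
          have := congrArg 𝒴.p.map hg'
          rw [Functor.map_comp, fp_snd_map φ, fp_snd_map ψ, ← cancel_mono (eqToHom (fp_snd_obj z)),
            ← cancel_epi (eqToHom (fp_snd_obj w).symm)] at this
          simp at this
          simpa using this)
      refine ⟨χ, sc_ext (h𝒴.isStronglyCartesian φ.hom.snd) ?_ ?_, h2⟩
      · have h1' : 𝒳.p.map χ.hom.fst = _ := h1
        show 𝒴.p.map χ.hom.snd = _
        rw [fp_snd_map χ, h1']; simp
      · exact (congrArg (fun m => m.hom.snd) h2).trans hg'.symm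
    · refine sc_ext (hfp.isStronglyCartesian φ) ?_ e2
      have := congrArg 𝒴.p.map (show χ.hom.snd = χ'.hom.snd from e1)
      rw [fp_snd_map, fp_snd_map, cancel_epi, cancel_mono] at this
      exact this

end Projection

end Groth.Agent.LeadFibCat
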