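import Groth.Agent.Lead.FibCat.Cart

/-! Fibred and co-fibred. -/

set_option autoImplicit false
set_option backward.isDefEq.respectTransparency false
set_option backward.isDefEq.respectTransparency.types false

universe v₂ u₂ v u

open CategoryTheory CategoryTheory.Functor Opposite FibCat

namespace Groth.Agent.LeadFibCat

variable {C : Type u} [Category.{v} C] {A : Type u₂} [Category.{v₂} A] {p : A ⥤ C}

theorem op_isFibered (hp : p.IsFibered) (hop : p.op.IsPreFibered) : p.op.IsFibered := by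
  refine isFibered_mk fun {x V} f => ?_
  obtain ⟨y, φ, e, he, hc⟩ := exists_cart hop f
  refine ⟨y, φ, e, he, sc_mk φ (fun {z} ψ g hg => ?_) (fun {z} χ χ' e1 e2 => ?_)⟩
  · -- unop: `φ : x ⟶ y` cocartesian, `ψ : x ⟶ z`, `g : p y ⟶ p z`
    have hg' : p.map φ.unop ≫ g.unop = p.map ψ.unop := congrArg Quiver.Hom.unop hg
    obtain ⟨c, l, ec, hl, hs⟩ := exists_sc hp (x := z.unop) g.unop
    obtain ⟨a, ha1, ha2⟩ := sc_exists hs ψ.unop (p.map φ.unop ≫ eqToHom ec.symm) (by rw [hl]; simp [hg'])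
    obtain ⟨b, hb, hb'⟩ := c_exists hc (z := op c) a.op (congrArg op ec) (by
      apply Quiver.Hom.unop_inj
      simp [ha1])
    refine ⟨l.op ≫ b, ?_, ?_⟩
    · apply Quiver.Hom.unop_inj
      have hbm := congrArg Quiver.Hom.unop hb.2
      simp only [Functor.op_map, Quiver.Hom.unop_op, eqToHom_unop] at hbm
      show p.map (b.unop ≫ l) = g.unop
      rw [Functor.map_comp, hbm, hl]
      simp
    · rw [Category.assoc, hb']
      exact Quiver.Hom.unop_inj ha2
  · have e1' : p.map χ.unop = p.map χ'.unop := congrArg Quiver.Hom.unop e1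
    have e2' : φ.unop ≫ χ.unop = φ.unop ≫ χ'.unop := congrArg Quiver.Hom.unop e2
    obtain ⟨c, l, ec, hl, hs⟩ := exists_sc hp (x := z.unop) (p.map χ.unop)
    obtain ⟨a, ha1, ha2⟩ := sc_exists hs χ.unop (eqToHom ec.symm) (by rw [hl]; simp)
    obtain ⟨a', ha1', ha2'⟩ := sc_exists hs χ'.unop (eqToHom ec.symm) (by rw [hl, ← e1']; simp)
    have hv : ∀ (b : y.unop ⟶ c), p.map b = eqToHom ec.symm → Vert p.op b.op := fun b hb =>
      ⟨congrArg op ec, by apply Quiver.Hom.unop_inj; simp [hb]⟩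
    have key : φ.unop ≫ a = φ.unop ≫ a' :=
      sc_ext hs (by rw [Functor.map_comp, Functor.map_comp, ha1, ha1'])
        (by rw [Category.assoc, Category.assoc, ha2, ha2', e2'])
    have := c_ext hc (hv a ha1) (hv a' ha1') (Quiver.Hom.unop_inj key)
    apply Quiver.Hom.unop_inj
    rw [← ha2, ← ha2', show a = a' from Quiver.Hom.op_inj this]

theorem opop_isPreFibered (hp : p.IsPreFibered) : p.op.op.IsPreFibered := by
  refine isPreFibered_mk fun {x V} f => ?_
  obtain ⟨y, φ, e, he, hc⟩ := exists_cart hp (x := x.unop.unop) f.unop.unop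
  refine ⟨op (op y), φ.op.op, congrArg (fun t => op (op t)) e, ?_, c_mk _ (fun {z} ψ e' h => ?_)
    (fun {z} χ χ' hv hv' h => ?_)⟩
  · apply Quiver.Hom.unop_inj; apply Quiver.Hom.unop_inj; simp [he]
  · obtain ⟨χ, ⟨e1, h1⟩, h2⟩ := c_exists hc ψ.unop.unop (congrArg (fun t => t.unop.unop) e') (by
      have := congrArg (fun q => q.unop.unop) h
      simpa using this)
    refine ⟨χ.op.op, ⟨congrArg (fun t => op (op t)) e1, ?_⟩, ?_⟩
    · apply Quiver.Hom.unop_inj; apply Quiver.Hom.unop_inj; simp [h1]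
    · exact Quiver.Hom.unop_inj (Quiver.Hom.unop_inj h2)
  · obtain ⟨e1, h1⟩ := hv
    obtain ⟨e1', h1'⟩ := hv'
    exact Quiver.Hom.unop_inj (Quiver.Hom.unop_inj (c_ext hc
      ⟨congrArg (fun t => t.unop.unop) e1, by simpa using congrArg (fun q => q.unop.unop) h1⟩
      ⟨congrArg (fun t => t.unop.unop) e1', by simpa using congrArg (fun q => q.unop.unop) h1'⟩
      (congrArg (fun q => q.unop.unop) h)))

theorem isFibered_of_opop (h : p.op.op.IsFibered) : p.IsFibered := by
  refine isFibered_mk fun {x V} f => ?_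
  obtain ⟨y, φ, e, he, hs⟩ := exists_sc h (x := op (op x)) f.op.op
  refine ⟨y.unop.unop, φ.unop.unop, congrArg (fun t => t.unop.unop) e, ?_, sc_mk _ (fun {z} ψ g hg => ?_)
    (fun {z} χ χ' e1 e2 => ?_)⟩
  · simpa using congrArg (fun q => q.unop.unop) he
  · obtain ⟨χ, h1, h2⟩ := sc_exists hs (z := op (op z)) ψ.op.op g.op.op (by
      apply Quiver.Hom.unop_inj; apply Quiver.Hom.unop_inj; exact hg)
    exact ⟨χ.unop.unop, congrArg (fun q => q.unop.unop) h1, congrArg (fun q => q.unop.unop) h2⟩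
  · exact Quiver.Hom.op_inj (Quiver.Hom.op_inj (sc_ext hs (z := op (op z)) (χ := χ.op.op) (χ' := χ'.op.op)
      (congrArg (fun q => q.op.op) e1) (congrArg (fun q => q.op.op) e2)))

theorem isFibered_iff_op (h1 : p.IsPreFibered) (h2 : p.op.IsPreFibered) : p.IsFibered ↔ p.op.IsFibered :=
  ⟨fun h => op_isFibered h h2, fun h => isFibered_of_opop (op_isFibered h (opop_isPreFibered h1))⟩

end Groth.Agent.LeadFibCat
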