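import Groth.Agent.Lead.FibCat.Setoid
import Mathlib.CategoryTheory.Comma.Basic
import Mathlib.CategoryTheory.Adjunction.Basic
import Mathlib.CategoryTheory.ObjectProperty.FullSubcategory

/-! Factorisation of a morphism of fibred categories; uniqueness of representing objects. -/

set_option autoImplicit false
set_option backward.isDefEq.respectTransparency false
set_option backward.isDefEq.respectTransparency.types false

universe v₂ u₂ v u

open CategoryTheory CategoryTheory.Limits CategoryTheory.Functor FibCat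

namespace Groth.Agent.LeadFibCat

variable {C : Type u} [Category.{v} C]

section Factor

variable {𝒳 𝒴 : BasedCategory.{v, max u v} C} (F : 𝒳 ⥤ᵇ 𝒴)

/-- objects: a vertical morphism into the image of `F` -/
def factP : ObjectProperty (Comma (𝟭 𝒴.obj) F.toFunctor) := fun z => Vert 𝒴.p z.hom

/-- the intermediate category -/
abbrev factCat : BasedCategory.{v, max u v} C :=
  BasedCategory.ofFunctor ((factP F).ι ⋙ Comma.snd _ _ ⋙ 𝒳.p)

theorem fact_obj (z : (factCat F).obj) : 𝒴.p.obj z.obj.left = 𝒳.p.obj z.obj.right :=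
  (z.property).1.trans (pobj F _)

theorem fact_map {z z' : (factCat F).obj} (m : z ⟶ z') :
    𝒴.p.map m.hom.left = eqToHom (fact_obj F z) ≫ 𝒳.p.map m.hom.right ≫ eqToHom (fact_obj F z').symm := by
  have hw : m.hom.left ≫ z'.obj.hom = z.obj.hom ≫ F.map m.hom.right := m.hom.w
  have := congrArg 𝒴.p.map hw
  rw [Functor.map_comp, Functor.map_comp, (z.property).map_eq, (z'.property).map_eq, pmap] at this
  rw [← cancel_mono (eqToHom (z'.property).1), this]
  simp

/-- first projection -/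
def factV : factCat F ⥤ᵇ 𝒴 where
  toFunctor := (factP F).ι ⋙ Comma.fst _ _
  w := CategoryTheory.Functor.ext (fact_obj F) fun _ _ m => fact_map F m

/-- second projection -/
def factW : factCat F ⥤ᵇ 𝒳 where
  toFunctor := (factP F).ι ⋙ Comma.snd _ _
  w := rfl

/-- the embedding -/
def factU : 𝒳 ⥤ᵇ factCat F where
  toFunctor :=
    { obj := fun x => ⟨⟨F.obj x, x, 𝟙 _⟩, Vert.id _⟩
      map := fun {a b} φ => ObjectProperty.homMk ⟨F.map φ, φ,
        (Category.comp_id _).trans (Category.id_comp _).symm⟩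
      map_id := fun a => ObjectProperty.hom_ext _ (CommaMorphism.ext (F.toFunctor.map_id a) rfl)
      map_comp := fun φ ψ => ObjectProperty.hom_ext _ (CommaMorphism.ext (F.toFunctor.map_comp φ ψ) rfl) }
  w := rfl

variable {F}

theorem sc_fact {y x : (factCat F).obj} (m : y ⟶ x)
    (h1 : 𝒴.p.IsStronglyCartesian (𝒴.p.map m.hom.left) m.hom.left)
    (h2 : 𝒳.p.IsStronglyCartesian (𝒳.p.map m.hom.right) m.hom.right)
    (h3 : 𝒴.p.IsStronglyCartesian (𝒴.p.map (F.map m.hom.right)) (F.map m.hom.right)) :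
    (factCat F).p.IsStronglyCartesian ((factCat F).p.map m) m := by
  refine sc_mk m (fun {z} ψ g hg => ?_) (fun {z} χ χ' e1 e2 => ?_)
  · have hg' : g ≫ 𝒳.p.map m.hom.right = 𝒳.p.map ψ.hom.right := hg
    obtain ⟨a, ha1, ha2⟩ := sc_exists h2 ψ.hom.right g hg
    obtain ⟨b, hb1, hb2⟩ := sc_exists h1 ψ.hom.left (eqToHom (fact_obj F z) ≫ g ≫ eqToHom (fact_obj F y).symm)
      (by simp [fact_map, reassoc_of% hg'])
    have hw : ψ.hom.left ≫ x.obj.hom = z.obj.hom ≫ F.map ψ.hom.right := ψ.hom.w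
    have hw' : m.hom.left ≫ x.obj.hom = y.obj.hom ≫ F.map m.hom.right := m.hom.w
    refine ⟨ObjectProperty.homMk ⟨b, a, sc_ext h3 ?_ ?_⟩, ha1,
      ObjectProperty.hom_ext _ (CommaMorphism.ext hb2 ha2)⟩
    · show 𝒴.p.map (b ≫ y.obj.hom) = 𝒴.p.map (z.obj.hom ≫ F.map a)
      rw [Functor.map_comp, Functor.map_comp, (y.property).map_eq, (z.property).map_eq, hb1, pmap, ha1]
      simp
    · show (b ≫ y.obj.hom) ≫ F.map m.hom.right = (z.obj.hom ≫ F.map a) ≫ F.map m.hom.right
      rw [Category.assoc, ← hw', Category.assoc z.obj.hom, ← Functor.map_comp, ha2, ← hw, ← Category.assoc, hb2]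
  · have e1' : 𝒳.p.map χ.hom.right = 𝒳.p.map χ'.hom.right := e1
    refine ObjectProperty.hom_ext _ (CommaMorphism.ext ?_ ?_)
    · exact sc_ext h1 (by rw [fact_map, fact_map, e1']) (congrArg (fun q => q.hom.left) e2)
    · exact sc_ext h2 e1' (congrArg (fun q => q.hom.right) e2)

theorem factV_isFibered (h𝒳 : 𝒳.p.IsFibered) (hF : PSC F) : (factV F).toFunctor.IsFibered := by
  refine isFibered_mk fun {z y'} g => ?_
  obtain ⟨x', χ, ex, hχ, hs⟩ := exists_sc h𝒳 (x := z.obj.right) (𝒴.p.map g ≫ eqToHom (fact_obj F z))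
  have hz : Vert 𝒴.p z.obj.hom := z.property
  obtain ⟨φ', h1, h2⟩ := sc_exists (hF χ hs) (g ≫ z.obj.hom) (eqToHom (ex.symm.trans (pobj F x').symm)) (by
    rw [pmap, hχ, Functor.map_comp, hz.map_eq]
    simp)
  let w : (factCat F).obj := ⟨⟨y', x', φ'⟩, ⟨_, h1⟩⟩
  let θ : w ⟶ z := ObjectProperty.homMk ⟨g, χ, h2.symm⟩
  refine ⟨w, θ, rfl, (Category.id_comp _).symm, sc_mk θ (fun {t} ψ b hb => ?_) (fun {t} η η' e1 e2 => ?_)⟩
  · have hb' : b ≫ g = ψ.hom.left := hb
    obtain ⟨a, ha1, ha2⟩ := sc_exists hs ψ.hom.right (eqToHom (fact_obj F t).symm ≫ 𝒴.p.map b ≫ eqToHom ex.symm) (by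
      have := congrArg 𝒴.p.map hb'
      rw [Functor.map_comp, fact_map] at this
      rw [hχ, ← cancel_epi (eqToHom (fact_obj F t)), ← cancel_mono (eqToHom (fact_obj F z).symm)]
      simpa using this)
    have hw : ψ.hom.left ≫ z.obj.hom = t.obj.hom ≫ F.map ψ.hom.right := ψ.hom.w
    refine ⟨ObjectProperty.homMk ⟨b, a, sc_ext (hF χ hs) ?_ ?_⟩, rfl,
      ObjectProperty.hom_ext _ (CommaMorphism.ext hb' ha2)⟩
    · show 𝒴.p.map (b ≫ φ') = 𝒴.p.map (t.obj.hom ≫ F.map a)
      rw [Functor.map_comp, Functor.map_comp, h1, (t.property).map_eq, pmap, ha1]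
      simp
    · show (b ≫ φ') ≫ F.map χ = (t.obj.hom ≫ F.map a) ≫ F.map χ
      rw [Category.assoc, h2, Category.assoc t.obj.hom, ← Functor.map_comp, ha2, ← hw, reassoc_of% hb']
  · have e1' : η.hom.left = η'.hom.left := e1
    refine ObjectProperty.hom_ext _ (CommaMorphism.ext e1' (sc_ext hs ?_ (congrArg (fun q => q.hom.right) e2)))
    have := congrArg 𝒴.p.map e1'
    rw [fact_map, fact_map, cancel_epi, cancel_mono] at this
    exact this

theorem isFibered_of_w {𝒲 : BasedCategory.{v, max u v} C} {G : 𝒲 ⥤ᵇ 𝒴} (h : G.toFunctor.IsFibered)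
    (h𝒴 : 𝒴.p.IsFibered) : 𝒲.p.IsFibered := by
  rw [← G.w]
  haveI := h
  haveI := h𝒴
  exact FibClv.DiscFib.isFibered_comp _ _

theorem fact_components (h𝒳 : 𝒳.p.IsFibered) (h𝒴 : 𝒴.p.IsFibered) (hF : PSC F) {y x : (factCat F).obj}
    (m : y ⟶ x) (hm : (factCat F).p.IsStronglyCartesian ((factCat F).p.map m) m) :
    𝒴.p.IsStronglyCartesian (𝒴.p.map m.hom.left) m.hom.left ∧
      𝒳.p.IsStronglyCartesian (𝒳.p.map m.hom.right) m.hom.right := by
  obtain ⟨x', χ, ex, hχ, hs⟩ := exists_sc h𝒳 (x := x.obj.right) (𝒳.p.map m.hom.right)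
  obtain ⟨y', g, ey, hg, hgs⟩ := exists_sc h𝒴 (x := x.obj.left) (𝒳.p.map m.hom.right ≫ eqToHom (fact_obj F x).symm)
  have hx : Vert 𝒴.p x.obj.hom := x.property
  obtain ⟨φ', h1, h2⟩ := sc_exists (hF χ hs) (g ≫ x.obj.hom) (eqToHom (ey.trans (ex.symm.trans (pobj F x').symm))) (by
    rw [pmap, hχ, Functor.map_comp, hg, hx.map_eq]
    simp)
  let w : (factCat F).obj := ⟨⟨y', x', φ'⟩, ⟨_, h1⟩⟩
  let θ : w ⟶ x := ObjectProperty.homMk ⟨g, χ, h2.symm⟩
  have hθ := sc_fact θ hgs hs (hF χ hs)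
  obtain ⟨i, -, hi⟩ := sc_iso hm hθ ex.symm (by
    show 𝒳.p.map m.hom.right = _
    rw [show (factCat F).p.map θ = 𝒳.p.map χ from rfl, hχ]
    exact ((eqToHom_trans_assoc _ _ _).trans (Category.id_comp _)).symm)
  constructor
  · have e : m.hom.left = ((factV F).toFunctor.mapIso i).hom ≫ g :=
      (congrArg (fun q => q.hom.left) hi).symm
    rw [e, Functor.map_comp]
    haveI := hgs
    infer_instance
  · have e : m.hom.right = ((factW F).toFunctor.mapIso i).hom ≫ χ :=
      (congrArg (fun q => q.hom.right) hi).symm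
    rw [e, Functor.map_comp]
    haveI := hs
    infer_instance

variable (F) in
/-- the adjunction `w ⊣ u` -/
def factAdj : (factW F).toFunctor ⊣ (factU F).toFunctor :=
  Adjunction.mkOfHomEquiv
    { homEquiv := fun z x =>
        { toFun := fun a => ObjectProperty.homMk ⟨z.obj.hom ≫ F.map a, a, Category.comp_id _⟩
          invFun := fun m => m.hom.right
          left_inv := fun a => rfl
          right_inv := fun m => ObjectProperty.hom_ext _ (CommaMorphism.ext
            (m.hom.w.symm.trans (Category.comp_id _)) rfl) }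
      homEquiv_naturality_left_symm := fun _ _ => rfl
      homEquiv_naturality_right := fun {z x x'} a b => ObjectProperty.hom_ext _ (CommaMorphism.ext
        ((congrArg (fun q => z.obj.hom ≫ q) (F.toFunctor.map_comp a b)).trans (Category.assoc _ _ _).symm) rfl) }

theorem factorization (h𝒳 : 𝒳.p.IsFibered) (h𝒴 : 𝒴.p.IsFibered) (hF : PSC F) :
    (factCat F).p.IsFibered ∧ PSC (factU F) ∧ PSC (factV F) ∧ PSC (factW F) ∧
      BasedFunctor.comp (factU F) (factV F) = F ∧ (factU F).toFunctor.Full ∧ (factU F).toFunctor.Faithful := by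
  refine ⟨isFibered_of_w (factV_isFibered h𝒳 hF) h𝒴, fun {a b} φ h => sc_fact _ (hF φ h) h (hF φ h),
    fun {a b} m h => (fact_components h𝒳 h𝒴 hF m h).1, fun {a b} m h => (fact_components h𝒳 h𝒴 hF m h).2,
    rfl, ⟨fun {a b} m => ⟨m.hom.right, ?_⟩⟩, ⟨fun {a b} φ φ' e => congrArg (fun q => q.hom.right) e⟩⟩
  exact ObjectProperty.hom_ext _ (CommaMorphism.ext
    ((Category.id_comp _).symm.trans (m.hom.w.symm.trans (Category.comp_id _))) rfl)

end Factor

section Representing

theorem over_ext {X : C} {a b : Over X} {f g : a ⟶ b} (h : f.left = g.left) : f = g := Over.OverMorphism.ext h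

theorem representing_unique {𝒮 : BasedCategory.{v, max u v} C} {X X' : C} (j : 𝒮 ⥤ᵇ overCat X)
    (j' : 𝒮 ⥤ᵇ overCat X') (hj : IsEquivOver j) (hj' : IsEquivOver j') :
    ∃ e : X' ≅ X, Nonempty (BasedFunctor.comp j' (⟨Over.map e.hom, Over.mapForget_eq e.hom⟩ : overCat X' ⥤ᵇ overCat X) ≅ j) := by
  obtain ⟨G, ⟨unit⟩, hc⟩ := hj'
  have hG : IsEquivOver G := ⟨j', hc, ⟨unit⟩⟩
  let k : overCat X' ⥤ᵇ overCat X := BasedFunctor.comp G j
  obtain ⟨k1, k2, k3⟩ := equiv_props (equiv_comp hG hj)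
  let o : Over X' := Over.mk (𝟙 X')
  let h : X' ⟶ X := eqToHom (pobj k o).symm ≫ (k.obj o).hom
  have hk : ∀ w : Over X', (k.obj w).hom = eqToHom (pobj k w) ≫ w.hom ≫ h := fun w => by
    have h1 := Over.w (k.map (Over.homMk w.hom (Category.comp_id _) : w ⟶ o))
    have h2 := pmap k (Over.homMk w.hom (Category.comp_id _) : w ⟶ o)
    change (k.map (Over.homMk w.hom (Category.comp_id _) : w ⟶ o)).left = _ at h2
    rw [h2] at h1
    simp only [h, ← h1, Category.assoc]
    rfl
  obtain ⟨u₀, e₀, -⟩ := k3 (Over.mk (𝟙 X))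
  let s : X ⟶ X' := e₀.inv.left ≫ eqToHom (pobj k u₀) ≫ u₀.hom
  have hsh : s ≫ h = 𝟙 X := by
    have := Over.w e₀.inv
    rw [hk] at this
    simp only [s, Category.assoc]
    exact this
  have hhs : h ≫ s = 𝟙 X' := by
    let a : Over X' := Over.mk (h ≫ s)
    let i : k.obj a ⟶ k.obj o := Over.homMk (eqToHom ((pobj k a).trans (pobj k o).symm)) (by
      rw [hk, hk]
      exact (eqToHom_trans_assoc _ _ _).trans (congrArg (eqToHom _ ≫ ·) ((Category.id_comp h).trans
        ((Category.comp_id h).symm.trans ((congrArg (h ≫ ·) hsh.symm).trans (Category.assoc _ _ _).symm)))))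
    obtain ⟨m, hm⟩ := k1 i
    have hl : m.left = 𝟙 X' := by
      have h2 := pmap k m
      rw [hm] at h2
      change eqToHom ((pobj k a).trans (pobj k o).symm) = eqToHom (pobj k a) ≫ m.left ≫ eqToHom (pobj k o).symm at h2
      rw [← cancel_epi (eqToHom (pobj k a)), ← cancel_mono (eqToHom (pobj k o).symm), Category.assoc, Category.assoc]
      refine h2.symm.trans ?_
      exact (eqToHom_trans _ _).symm.trans (congrArg (eqToHom _ ≫ ·) (Category.id_comp _).symm)
    have := Over.w m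
    rw [hl] at this
    exact this.symm.trans ((Category.id_comp _).trans rfl)
  refine ⟨⟨h, s, hhs, hsh⟩, ⟨isoMk (fun x => Over.isoMk (eqToIso (pobj k (j'.obj x)).symm) (by
    simp [hk]; rfl) ≪≫ j.toFunctor.mapIso (app unit x))
    (fun {a b} φ => over_ext ?_) (fun x => Vert.comp ⟨(pobj k (j'.obj x)).symm, rfl⟩ (Vert.map (vert_app unit x)))⟩⟩
  have h1 := pmap j' φ
  have h2 := pmap j φ
  change (j'.map φ).left = _ at h1
  change (j.map φ).left = _ at h2
  have h3 : ∀ x, (j.map (app unit x).hom).left = eqToHom ((Vert.map (F := j) (vert_app unit x)).1) :=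
    fun x => (Vert.map (F := j) (vert_app unit x)).2
  show (j'.map φ).left ≫ eqToHom (pobj k (j'.obj b)).symm ≫ (j.map (app unit b).hom).left =
    (eqToHom (pobj k (j'.obj a)).symm ≫ (j.map (app unit a).hom).left) ≫ (j.map φ).left
  rw [h1, h2, h3, h3]
  simp

end Representing

end Groth.Agent.LeadFibCat
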