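import Groth.Agent.Lead.FibCat.Cart
import Groth.Prelude.Def_AlgSt
import Groth.Prelude.Def_W4c2modmodulilectNerve
import Mathlib.CategoryTheory.Category.ULift
import Mathlib.CategoryTheory.Groupoid
import Mathlib.CategoryTheory.Comma.StructuredArrow.Basic
import Mathlib.CategoryTheory.FiberedCategory.Fiber

/-! Restriction of sections along a functor with contractible comma categories. -/

set_option autoImplicit false
set_option backward.isDefEq.respectTransparency false
set_option backward.isDefEq.respectTransparency.types false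

universe v₁ v₂ v₃ u₁ u₂ u₃ w v₄ u₄

open CategoryTheory CategoryTheory.Functor FibCat

namespace Groth.Agent.LeadNerve

open Groth.Agent.LeadFibCat

attribute [local instance] uliftCategory

theorem vert_app' {C : Type u₁} [Category.{v₁} C] {𝒳 : BasedCategory.{v₂, u₂} C} {𝒴 : BasedCategory.{v₃, u₃} C}
    {G H : 𝒳 ⥤ᵇ 𝒴} (α : G ⟶ H) (a : 𝒳.obj) : Vert 𝒴.p (α.toNatTrans.app a) :=
  Vert.of_lift (BasedNatTrans.isHomLift α rfl)

variable {A : Type u₁} [Category.{v₁} A]

theorem nerve_const (hA : W4c2modmodulilect.HasContractibleNerve.{max w u₂ v₂, max w u₂ v₂} A)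
    {B : Type u₂} [Category.{v₂} B] (hB : ∀ {a b : B} (g : a ⟶ b), IsIso g) (P : A ⥤ B) :
    ∃ b, Nonempty ((Functor.const A).obj b ≅ P) := by
  let B' := ULiftHom.{max w u₂} (ULift.{max w v₂} B)
  let e : B ≌ B' := ULift.equivalence.trans ULiftHom.equiv
  letI : Groupoid.{max w u₂ v₂} B' := Groupoid.ofIsIso fun g => by
    haveI := hB (e.inverse.map g)
    exact isIso_of_reflects_iso g e.inverse
  haveI := hA.2 B'
  obtain ⟨c, ⟨i⟩⟩ := EssSurj.mem_essImage (F := (Functor.const A : B' ⥤ A ⥤ B')) (P ⋙ e.functor)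
  exact ⟨e.inverse.obj c, ⟨(Functor.constComp A c e.inverse).symm ≪≫ Functor.isoWhiskerRight i e.inverse ≪≫
    Functor.associator _ _ _ ≪≫ Functor.isoWhiskerLeft P e.unitIso.symm ≪≫ P.rightUnitor⟩⟩

theorem nerve_connected (hA : W4c2modmodulilect.HasContractibleNerve.{max w u₂, max w u₂} A) {T : Type u₂} (f : A → T)
    (hf : ∀ {a b : A} (_ : a ⟶ b), f a = f b) (a b : A) : f a = f b := by
  obtain ⟨c, ⟨e⟩⟩ := nerve_const.{_, u₂, _, u₂, w} (B := Discrete T) hA (fun _ => inferInstance)
    { obj := fun a => ⟨f a⟩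
      map := fun g => eqToHom (congrArg Discrete.mk (hf g))
      map_id := fun _ => Subsingleton.elim _ _
      map_comp := fun _ _ => Subsingleton.elim _ _ }
  exact (Discrete.eq_of_hom (e.app a).hom).symm.trans (Discrete.eq_of_hom (e.app b).hom)

section Transfer

variable {B : Type u₂} [Category.{v₂} B]

/-- contractibility moves along a functor with a lax section -/
theorem nerve_transfer (hA : W4c2modmodulilect.HasContractibleNerve.{w, w} A) (I : A ⥤ B) (R : B ⥤ A)
    (ε : R ⋙ I ⟶ 𝟭 B) : W4c2modmodulilect.HasContractibleNerve.{w, w} B := by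
  obtain ⟨⟨a₀⟩, hA'⟩ := hA
  refine ⟨⟨I.obj a₀⟩, fun G _ => ?_⟩
  haveI := hA' G
  haveI : (Functor.const B : G ⥤ B ⥤ G).Faithful :=
    ⟨fun {g g' φ φ'} h => congrArg (fun α : _ ⟶ _ => NatTrans.app α (I.obj a₀)) h⟩
  haveI : (Functor.const B : G ⥤ B ⥤ G).Full := ⟨fun {g g'} α => by
    obtain ⟨φ, hφ⟩ := (Functor.const A : G ⥤ A ⥤ G).map_surjective
      ({ app := fun a => α.app (I.obj a)
         naturality := fun a b m => α.naturality (I.map m) } : (Functor.const A).obj g ⟶ (Functor.const A).obj g')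
    refine ⟨φ, NatTrans.ext (funext fun b => ?_)⟩
    have h1 := α.naturality (ε.app b)
    simp only [Functor.const_obj_map, Category.id_comp, Category.comp_id] at h1
    exact (congrArg (fun β : _ ⟶ _ => NatTrans.app β (R.obj b)) hφ).trans
      ((Category.comp_id _).symm.trans (h1.symm.trans (Category.id_comp _)))⟩
  haveI : (Functor.const B : G ⥤ B ⥤ G).EssSurj := ⟨fun P => by
    obtain ⟨c, ⟨i⟩⟩ := EssSurj.mem_essImage (F := (Functor.const A : G ⥤ A ⥤ G)) (I ⋙ P)
    exact ⟨c, ⟨NatIso.ofComponents (fun b => i.app (R.obj b) ≪≫ asIso (P.map (ε.app b))) (fun {b b'} m => by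
      have h1 := i.hom.naturality (R.map m)
      have h2 := congrArg P.map (ε.naturality m)
      simp only [Functor.comp_map, Functor.id_map, Functor.map_comp] at h2
      simp only [Functor.const_obj_map, Functor.comp_map, Category.id_comp] at h1 ⊢
      simp only [Iso.trans_hom, Iso.app_hom, asIso_hom]
      rw [← Category.assoc, h1, Category.assoc, Category.assoc, h2])⟩⟩⟩
  exact {}

end Transfer

section Restr

variable {C : Type u₁} [Category.{v₁} C] {D : Type u₂} [Category.{v₂} D] {F : Type u₃} [Category.{v₃} F]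
  {φ : C ⥤ D} {p : F ⥤ D}

theorem restr_isEquivalence (hp : IsFibGrpd p)
    (hφ : ∀ Y : D, W4c2modmodulilect.HasContractibleNerve.{max u₁ u₂ u₃ v₁ v₂ v₃, max u₁ u₂ u₃ v₁ v₂ v₃} (StructuredArrow Y φ)) :
    (Stk.restr (FibCat.toSelf (BasedCategory.ofFunctor φ)) (BasedCategory.ofFunctor p)).IsEquivalence := by
  have hne : ∀ Y : D, Nonempty (StructuredArrow Y φ) := fun Y => (hφ Y).1
  let m₀ : ∀ Y : D, StructuredArrow Y φ := fun Y => (hne Y).some
  let R := Stk.restr (FibCat.toSelf (BasedCategory.ofFunctor φ)) (BasedCategory.ofFunctor p)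
  have ffaith : R.Faithful := ⟨fun {G H α β} h => by
    refine BasedNatTrans.homCategory.ext _ _ (NatTrans.ext (funext fun (Y : D) => ?_))
    refine sc_ext (p := p) (hp.isStronglyCartesian (H.map (m₀ Y).hom)) ?_ ?_
    · exact (vert_app' α Y).map_eq.trans (vert_app' β Y).map_eq.symm
    · rw [← α.toNatTrans.naturality, ← β.toNatTrans.naturality]
      exact congrArg (G.map (m₀ Y).hom ≫ ·) (congrArg (fun a => a.toNatTrans.app (m₀ Y).right) h)⟩
  have ffull : R.Full := ⟨fun {G H} α => by
    have key : ∀ (Y : D) (m : StructuredArrow Y φ), ∃ χ : G.obj Y ⟶ H.obj Y, Vert p χ ∧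
        χ ≫ H.map m.hom = G.map m.hom ≫ α.toNatTrans.app m.right := fun Y m => by
      have hv : Vert p (α.toNatTrans.app m.right) := vert_app' α m.right
      obtain ⟨χ, h1, h2⟩ := sc_exists (hp.isStronglyCartesian (H.map m.hom)) (G.map m.hom ≫ α.toNatTrans.app m.right)
        (eqToHom ((pobj G Y).trans (pobj H Y).symm)) (by
          rw [Functor.map_comp, show p.map (H.map m.hom) = _ from pmap H m.hom, show p.map (G.map m.hom) = _ from pmap G m.hom, hv.map_eq]
          simp)
      exact ⟨χ, ⟨_, h1⟩, h2⟩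
    choose χ hv hc using key
    have hind : ∀ (Y : D) (m m' : StructuredArrow Y φ), χ Y m = χ Y m' := fun Y => nerve_connected.{_, _, _, max u₁ u₂ u₃ v₁ v₂ v₃} (hφ Y) (χ Y) (fun {a b} h => by
      refine sc_ext (p := p) (hp.isStronglyCartesian (H.map b.hom)) (by rw [(hv Y a).map_eq, (hv Y b).map_eq]) ?_
      rw [hc Y b]
      have hw : a.hom ≫ φ.map h.right = b.hom := StructuredArrow.w h
      rw [← hw, H.toFunctor.map_comp, G.toFunctor.map_comp, reassoc_of% hc Y a, Category.assoc]
      exact congrArg (G.map a.hom ≫ ·) (α.toNatTrans.naturality h.right).symm)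
    let N : G.toFunctor ⟶ H.toFunctor :=
      { app := fun Y => χ Y (m₀ Y)
        naturality := fun (Y Y' : D) g => by
          refine sc_ext (p := p) (hp.isStronglyCartesian (H.map (m₀ Y').hom)) ?_ ?_
          · rw [Functor.map_comp, Functor.map_comp, (hv Y' (m₀ Y')).map_eq, (hv Y (m₀ Y)).map_eq,
              show p.map (G.map g) = _ from pmap G g, show p.map (H.map g) = _ from pmap H g]
            simp
          · rw [Category.assoc, hc, ← Category.assoc, ← G.toFunctor.map_comp, Category.assoc, ← H.toFunctor.map_comp]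
            rw [hind Y (m₀ Y) (StructuredArrow.mk (g ≫ (m₀ Y').hom))]
            exact (hc Y (StructuredArrow.mk (g ≫ (m₀ Y').hom))).symm }
    refine ⟨⟨N, fun Y => (hv Y _).lift (pobj G Y)⟩, BasedNatTrans.homCategory.ext _ _ (NatTrans.ext (funext fun (X : C) => ?_))⟩
    show χ (φ.obj X) (m₀ (φ.obj X)) = α.toNatTrans.app X
    rw [hind (φ.obj X) _ (StructuredArrow.mk (𝟙 (φ.obj X)))]
    have := hc (φ.obj X) (StructuredArrow.mk (𝟙 (φ.obj X)))
    simp only [StructuredArrow.mk_hom_eq_self] at this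
    rwa [H.toFunctor.map_id, G.toFunctor.map_id, Category.comp_id, Category.id_comp] at this⟩
  have fess : R.EssSurj := ⟨fun s => by
    have keyL : ∀ (Y : D) (m : StructuredArrow Y φ), ∃ (y : F) (l : y ⟶ s.obj m.right) (e : p.obj y = Y),
        p.map l = eqToHom e ≫ m.hom ≫ eqToHom (pobj s m.right).symm := fun Y m =>
      exists_lift' hp (m.hom ≫ eqToHom (pobj s m.right).symm)
    choose y l ey hl using keyL
    have keyP : ∀ {Y : D} {m m' : StructuredArrow Y φ} (h : m ⟶ m'), ∃ χ : y Y m ⟶ y Y m',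
        Vert p χ ∧ χ ≫ l Y m' = l Y m ≫ s.map h.right := fun {Y m m'} h => by
      obtain ⟨χ, h1, h2⟩ := sc_exists (hp.isStronglyCartesian (l Y m')) (l Y m ≫ s.map h.right)
        (eqToHom ((ey Y m).trans (ey Y m').symm)) (by
          rw [Functor.map_comp, hl, hl, show p.map (s.map h.right) = _ from pmap s h.right]
          simp only [Category.assoc, eqToHom_trans_assoc, eqToHom_refl, Category.id_comp]
          rw [show (BasedCategory.ofFunctor φ).p.map h.right = φ.map h.right from rfl, reassoc_of% StructuredArrow.w h])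
      exact ⟨χ, ⟨_, h1⟩, h2⟩
    choose P hPv hPc using @keyP
    have hPe : ∀ {Y : D} {m m' : StructuredArrow Y φ} (h : m ⟶ m') (χ : y Y m ⟶ y Y m'), Vert p χ →
        χ ≫ l Y m' = l Y m ≫ s.map h.right → P h = χ := fun h χ hv hc =>
      sc_ext (p := p) (hp.isStronglyCartesian _) (by rw [(hPv h).map_eq, hv.map_eq]) ((hPc h).trans hc.symm)
    let PF : ∀ Y : D, StructuredArrow Y φ ⥤ p.Fiber Y := fun Y =>
      { obj := fun m => ⟨y Y m, ey Y m⟩
        map := fun h => ⟨P h, (hPv h).lift (ey Y _)⟩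
        map_id := fun m => Subtype.ext (hPe _ _ (Vert.id _)
          ((Category.id_comp _).trans ((congrArg (l Y m ≫ ·) (s.toFunctor.map_id _)).trans (Category.comp_id _)).symm))
        map_comp := fun {a b c} h k => Subtype.ext (hPe _ _ (Vert.comp (hPv h) (hPv k)) (by
          show (P h ≫ P k) ≫ l Y c = _
          rw [Category.assoc, hPc, reassoc_of% hPc h]
          exact congrArg (l Y a ≫ ·) (s.toFunctor.map_comp h.right k.right).symm)) }
    have hgr : ∀ (Y : D) {a b : p.Fiber Y} (g : a ⟶ b), IsIso g := fun Y a b g => by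
      have hv := Vert.of_lift g.2
      haveI := isIso_of_vert hp hv
      exact ⟨⟨inv g.1, (hv.of_inv (IsIso.hom_inv_id g.1)).lift b.2⟩, Subtype.ext (IsIso.hom_inv_id g.1),
        Subtype.ext (IsIso.inv_hom_id g.1)⟩
    choose x hx using fun Y => nerve_const.{_, _, _, _, max u₁ u₂ u₃ v₁ v₂ v₃} (hφ Y) (hgr Y) (PF Y)
    let t : ∀ (Y : D) (m : StructuredArrow Y φ), (x Y).1 ⟶ s.obj m.right := fun Y m =>
      ((hx Y).some.hom.app m).1 ≫ l Y m
    have ht : ∀ (Y : D) (m : StructuredArrow Y φ),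
        p.map (t Y m) = eqToHom (x Y).2 ≫ m.hom ≫ eqToHom (pobj s m.right).symm := fun Y m => by
      simp only [t, Functor.map_comp, (Vert.of_lift ((hx Y).some.hom.app m).2).map_eq, hl]
      simp
    have htn : ∀ {Y : D} {m m' : StructuredArrow Y φ} (h : m ⟶ m'), t Y m ≫ s.map h.right = t Y m' := fun {Y m m'} h => by
      have h1 := congrArg Subtype.val ((hx Y).some.hom.naturality h)
      simp only [t, Category.assoc, ← hPc h]
      exact (Category.assoc _ _ _).symm.trans (congrArg (· ≫ l Y m') (h1.symm.trans (Category.id_comp _)))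
    have keyG : ∀ {Y Y' : D} (g : Y ⟶ Y') (m : StructuredArrow Y' φ), ∃ χ : (x Y).1 ⟶ (x Y').1,
        p.map χ = eqToHom (x Y).2 ≫ g ≫ eqToHom (x Y').2.symm ∧ χ ≫ t Y' m = t Y (StructuredArrow.mk (g ≫ m.hom)) :=
      fun {Y Y'} g m => sc_exists (hp.isStronglyCartesian (t Y' m)) _ _ (by rw [ht, ht]; simp)
    choose k hk1 hk2 using @keyG
    have hkind : ∀ {Y Y' : D} (g : Y ⟶ Y') (m m' : StructuredArrow Y' φ), k g m = k g m' := fun {Y Y'} g =>
      nerve_connected.{_, _, _, max u₁ u₂ u₃ v₁ v₂ v₃} (hφ Y') (k g) (fun {a b} h => by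
        refine sc_ext (p := p) (hp.isStronglyCartesian (t Y' b)) (by rw [hk1, hk1]) ?_
        rw [hk2, ← htn h, reassoc_of% hk2 g a]
        exact htn (StructuredArrow.homMk h.right
          ((Category.assoc _ _ _).trans (congrArg (g ≫ ·) (StructuredArrow.w h))) :
            StructuredArrow.mk (g ≫ a.hom) ⟶ StructuredArrow.mk (g ≫ b.hom)))
    have hke : ∀ {Y Y' : D} (g : Y ⟶ Y') (m : StructuredArrow Y' φ), k g (m₀ Y') ≫ t Y' m = t Y (StructuredArrow.mk (g ≫ m.hom)) :=
      fun {Y Y'} g m => by rw [hkind g _ m]; exact hk2 g m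
    have ht' : ∀ {Y : D} {m m' : StructuredArrow Y φ} (hr : m = m'), HEq (t Y m) (t Y m') := fun hr => by subst hr; rfl
    let S : (BasedCategory.ofFunctor (𝟭 D)) ⥤ᵇ (BasedCategory.ofFunctor p) :=
      { toFunctor :=
          { obj := fun Y => (x Y).1
            map := fun {Y Y'} g => k g (m₀ Y')
            map_id := fun (Y : D) => by
              refine sc_ext (p := p) (hp.isStronglyCartesian (t Y (m₀ Y))) ?_ ?_
              · rw [hk1, p.map_id]
                exact (congrArg (eqToHom (x Y).2 ≫ ·) (Category.id_comp _)).trans (eqToHom_trans _ _)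
              · rw [Category.id_comp, hke, ← htn (StructuredArrow.homMk (𝟙 _) (by simp) : m₀ Y ⟶ StructuredArrow.mk (𝟙 Y ≫ (m₀ Y).hom))]
                exact (congrArg (t Y (m₀ Y) ≫ ·) (s.toFunctor.map_id _)).trans (Category.comp_id _)
            map_comp := fun {Y Y' Y''} g g' => by
              refine sc_ext (p := p) (hp.isStronglyCartesian (t Y'' (m₀ Y''))) ?_ ?_
              · rw [hk1, p.map_comp, hk1, hk1]
                simp
              · rw [hke, Category.assoc (k g (m₀ Y')), hke, hke]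
                refine eq_of_heq (ht' ?_)
                exact congrArg StructuredArrow.mk (Category.assoc _ _ _) }
        w := CategoryTheory.Functor.ext (fun Y => (x Y).2) fun Y Y' g => hk1 g (m₀ Y') }
    have hv : ∀ X : C, Vert p (t (φ.obj X) (StructuredArrow.mk (𝟙 (φ.obj X)))) := fun X =>
      ⟨(x _).2.trans (pobj s X).symm, by rw [ht]; simp⟩
    refine ⟨S, ⟨isoMk (fun X => @asIso _ _ _ _ _ (isIso_of_vert hp (hv X))) (fun {X X'} h => ?_) (fun X => hv X)⟩⟩
    show k (φ.map h) (m₀ _) ≫ t (φ.obj X') (StructuredArrow.mk (𝟙 _)) = t (φ.obj X) (StructuredArrow.mk (𝟙 _)) ≫ s.map h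
    rw [hke]
    exact (htn (StructuredArrow.homMk h (by simp) : StructuredArrow.mk (𝟙 (φ.obj X)) ⟶ StructuredArrow.mk (φ.map h ≫ 𝟙 _))).symm⟩
  exact {}

theorem fiber_to_structuredArrow (f : C ⥤ D) (hf : f.IsFibered) (Y : D) :
    ∃ (I : f.Fiber Y ⥤ StructuredArrow Y f) (R : StructuredArrow Y f ⥤ f.Fiber Y), Nonempty (R ⋙ I ⟶ 𝟭 _) := by
  let I : f.Fiber Y ⥤ StructuredArrow Y f :=
    { obj := fun a => StructuredArrow.mk (eqToHom a.2.symm)
      map := fun {a b} g => StructuredArrow.homMk g.1 (by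
        haveI := g.2
        simp [IsHomLift.fac' f (𝟙 Y) g.1])
      map_id := fun a => StructuredArrow.hom_ext _ _ rfl
      map_comp := fun g g' => StructuredArrow.hom_ext _ _ rfl }
  have keyL : ∀ m : StructuredArrow Y f, ∃ (y : C) (l : y ⟶ m.right) (e : f.obj y = Y),
      f.map l = eqToHom e ≫ m.hom ∧ f.IsStronglyCartesian (f.map l) l := fun m => exists_sc hf m.hom
  choose y l ey hl hs using keyL
  have keyP : ∀ {m m' : StructuredArrow Y f} (h : m ⟶ m'), ∃ χ : y m ⟶ y m', Vert f χ ∧ χ ≫ l m' = l m ≫ h.right := fun {m m'} h => by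
    obtain ⟨χ, h1, h2⟩ := sc_exists (hs m') (l m ≫ h.right) (eqToHom ((ey m).trans (ey m').symm)) (by
      rw [Functor.map_comp, hl, hl, Category.assoc, StructuredArrow.w h]
      simp)
    exact ⟨χ, ⟨_, h1⟩, h2⟩
  choose P hPv hPc using @keyP
  let R : StructuredArrow Y f ⥤ f.Fiber Y :=
    { obj := fun m => ⟨y m, ey m⟩
      map := fun h => ⟨P h, (hPv h).lift (ey _)⟩
      map_id := fun m => Subtype.ext (sc_ext (hs m) (by rw [(hPv (𝟙 m)).map_eq]; exact (f.map_id _).symm)
        ((hPc _).trans ((Category.comp_id _).trans (Category.id_comp _).symm)))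
      map_comp := fun {a b c} h k => Subtype.ext (sc_ext (hs c)
        ((hPv (h ≫ k)).map_eq.trans (Vert.comp (hPv h) (hPv k)).map_eq.symm)
        ((hPc _).trans (by
          show l a ≫ h.right ≫ k.right = (P h ≫ P k) ≫ l c
          rw [Category.assoc, hPc, reassoc_of% hPc h]))) }
  exact ⟨I, R, ⟨{ app := fun m => StructuredArrow.homMk (l m) (by
                    show eqToHom (ey m).symm ≫ f.map (l m) = m.hom
                    rw [hl, eqToHom_trans_assoc, eqToHom_refl, Category.id_comp])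
                  naturality := fun m m' h => StructuredArrow.hom_ext _ _ (hPc h) }⟩⟩

theorem restr_isEquivalence_of_fibred (hp : IsFibGrpd p) (hf : φ.IsFibered)
    (h : ∀ Y : D, W4c2modmodulilect.HasContractibleNerve.{max u₁ u₂ u₃ v₁ v₂ v₃, max u₁ u₂ u₃ v₁ v₂ v₃} (φ.Fiber Y)) :
    (Stk.restr (FibCat.toSelf (BasedCategory.ofFunctor φ)) (BasedCategory.ofFunctor p)).IsEquivalence := by
  refine restr_isEquivalence hp fun Y => ?_
  obtain ⟨I, R, ⟨ε⟩⟩ := fiber_to_structuredArrow φ hf Y
  exact nerve_transfer (h Y) I R ε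

end Restr

end Groth.Agent.LeadNerve
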