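import Groth.Agent.Lead.FibCat.Setoid
import Groth.Prelude.Def_W4stkcategoriessitesFib

/-! Categorical pullbacks of plain categories. -/

set_option autoImplicit false
set_option backward.isDefEq.respectTransparency false
set_option backward.isDefEq.respectTransparency.types false

universe v₂ v₃ v₄ u₂ u₃ u₄ v u

open CategoryTheory CategoryTheory.Limits CategoryTheory.Functor FibCat

namespace Groth.Agent.LeadFibCat

section BaseChange

variable {C : Type u} [Category.{v} C] {D : Type u₂} [Category.{v₂} D] (u' : C ⥤ D) {A : Type u₃} [Category.{v₃} A]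
  (p : A ⥤ D)

theorem isFibered_pullback_fst [p.IsFibered] : (CategoricalPullback.π₁ u' p).IsFibered := by
  refine isFibered_mk fun {z V} f => ?_
  obtain ⟨y, ψ, e, he, hs⟩ := exists_sc (p := p) inferInstance (x := z.snd) (u'.map f ≫ z.iso.hom)
  let w : CategoricalPullback u' p := { fst := V, snd := y, iso := eqToIso e.symm }
  let θ : w ⟶ z := { fst := f, snd := ψ, w := by simp [w, he] }
  refine ⟨w, θ, rfl, (Category.id_comp _).symm, sc_mk θ (fun {t} χ g hg => ?_) (fun {t} χ χ' e1 e2 => ?_)⟩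
  · have hg' : g ≫ f = χ.fst := hg
    obtain ⟨b, hb1, hb2⟩ := sc_exists hs χ.snd (t.iso.inv ≫ u'.map g ≫ eqToHom e.symm) (by
      have hw := χ.w
      rw [he, ← cancel_epi t.iso.hom, ← hw, ← hg']
      simp)
    refine ⟨{ fst := g, snd := b, w := ?_ }, rfl, CategoricalPullback.hom_ext hg' hb2⟩
    show u'.map g ≫ eqToHom e.symm = t.iso.hom ≫ p.map b
    rw [hb1, Iso.hom_inv_id_assoc]
  · have h1 : χ.fst = χ'.fst := e1
    refine CategoricalPullback.hom_ext h1 (sc_ext hs ?_ (congrArg CategoricalPullback.Hom.snd e2))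
    rw [← cancel_epi t.iso.hom, ← χ.w, ← χ'.w, h1]

end BaseChange

section Snd

variable {S : Type u} [Category.{v} S] {X : Type u₂} [Category.{v₂} X] {Y : Type u₃} [Category.{v₃} Y]

theorem isFibGrpd_pullback_snd (πX : X ⥤ S) (πY : Y ⥤ S) (hX : IsFibGrpd πX) (hY : IsFibGrpd πY)
    (F : Y ⥤ X) (hF : F ⋙ πX = πY) : IsFibGrpd (CategoricalPullback.π₂ F (𝟭 X)) := by
  have ho : ∀ y, πX.obj (F.obj y) = πY.obj y := fun y => Functor.congr_obj hF y
  have hm : ∀ {y y'} (a : y ⟶ y'), πX.map (F.map a) = eqToHom (ho y) ≫ πY.map a ≫ eqToHom (ho y').symm :=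
    fun a => Functor.congr_hom hF a
  refine isFibGrpd_mk (fun {z x} f => ?_) (fun {w z} φ => ?_)
  · obtain ⟨y, ψ, ey, hψ⟩ := exists_lift' hY (x := z.fst) (πX.map (f ≫ z.iso.inv) ≫ eqToHom (ho z.fst))
    obtain ⟨θ, -, hθ⟩ := sc_iso (hX.isStronglyCartesian (F.map ψ)) (hX.isStronglyCartesian (f ≫ z.iso.inv))
      ((ho y).trans ey) (by rw [hm, hψ]; simp)
    refine ⟨{ fst := y, snd := x, iso := θ }, { fst := ψ, snd := f, w := ?_ }, rfl, (Category.id_comp _).symm⟩
    show F.map ψ ≫ z.iso.hom = θ.hom ≫ f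
    rw [← hθ, Category.assoc, Category.assoc, Iso.inv_hom_id]
    exact congrArg _ (Category.comp_id f)
  · refine sc_mk φ (fun {t} ψ g hg => ?_) (fun {t} χ χ' e1 e2 => ?_)
    · have hg' : g ≫ φ.snd = ψ.snd := hg
      have hw : F.map φ.fst ≫ z.iso.hom = w.iso.hom ≫ φ.snd := φ.w
      have hw' : F.map ψ.fst ≫ z.iso.hom = t.iso.hom ≫ ψ.snd := ψ.w
      have hk : (t.iso.hom ≫ g ≫ w.iso.inv) ≫ F.map φ.fst = F.map ψ.fst := by
        rw [← cancel_mono z.iso.hom, hw', Category.assoc, hw, Category.assoc, Category.assoc,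
          Iso.inv_hom_id_assoc, hg']
      obtain ⟨a, ha1, ha2⟩ := sc_exists (hY.isStronglyCartesian φ.fst) ψ.fst
        (eqToHom (ho t.fst).symm ≫ πX.map (t.iso.hom ≫ g ≫ w.iso.inv) ≫ eqToHom (ho w.fst)) (by
          have := congrArg πX.map hk
          rw [Functor.map_comp, hm, hm, ← cancel_epi (eqToHom (ho t.fst).symm),
            ← cancel_mono (eqToHom (ho z.fst))] at this
          simpa using this)
      have hFa : F.map a = t.iso.hom ≫ g ≫ w.iso.inv :=
        sc_ext (hX.isStronglyCartesian (F.map φ.fst)) (by rw [hm, ha1]; simp)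
          (by rw [← Functor.map_comp, ha2, hk])
      refine ⟨{ fst := a, snd := g, w := ?_ }, rfl, CategoricalPullback.hom_ext ha2 hg'⟩
      show F.map a ≫ w.iso.hom = t.iso.hom ≫ g
      rw [hFa, Category.assoc, Category.assoc, Iso.inv_hom_id]
      exact congrArg _ (Category.comp_id g)
    · have h2 : χ.snd = χ'.snd := e1
      refine CategoricalPullback.hom_ext (sc_ext (hY.isStronglyCartesian φ.fst) ?_ (congrArg CategoricalPullback.Hom.fst e2)) h2
      have : F.map χ.fst = F.map χ'.fst := by rw [← cancel_mono w.iso.hom, χ.w, χ'.w, h2]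
      have := congrArg πX.map this
      rw [hm, hm, cancel_epi, cancel_mono] at this
      exact this

end Snd

section Map

variable {X Y Z A B C' : Type u} [Category.{v} X] [Category.{v} Y] [Category.{v} Z] [Category.{v} A] [Category.{v} B]
  [Category.{v} C'] {H : X ⥤ Z} {I : Y ⥤ Z} {F : A ⥤ C'} {G : B ⥤ C'} (ψ : CatCospanTransform H I F G)

theorem map_fst {x y : CategoricalPullback H I} (φ : x ⟶ y) :
    ((categoricalPullbackMap ψ).map φ).fst = ψ.left.map φ.fst := rfl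

theorem map_snd {x y : CategoricalPullback H I} (φ : x ⟶ y) :
    ((categoricalPullbackMap ψ).map φ).snd = ψ.right.map φ.snd := rfl

theorem map_iso (x : CategoricalPullback H I) :
    ((categoricalPullbackMap ψ).obj x).iso.hom =
      ψ.squareLeft.iso.inv.app x.fst ≫ ψ.base.map x.iso.hom ≫ ψ.squareRight.iso.hom.app x.snd := by
  simp [categoricalPullbackMap, CategoricalPullback.toCatCommSqOver, CategoricalPullback.CatCommSqOver.transform,
    CategoricalPullback.CatCommSqOver.precompose, CategoricalPullback.CatCommSqOver.toFunctorToCategoricalPullback]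
  rfl

theorem map_faithful [ψ.left.Faithful] [ψ.right.Faithful] : (categoricalPullbackMap ψ).Faithful :=
  ⟨fun {x y f g} h => CategoricalPullback.hom_ext (ψ.left.map_injective (congrArg CategoricalPullback.Hom.fst h))
    (ψ.right.map_injective (congrArg CategoricalPullback.Hom.snd h))⟩

theorem aux_ess {R : Type u₂} [Category.{v₂} R] {a b c d e f g h : R} (L : b ≅ a) (n : c ⟶ d) (Rt : e ≅ f)
    (g1 : a ⟶ c) (g2 : f ≅ d) :
    (L.inv ≫ (L.hom ≫ g1 ≫ n ≫ g2.inv ≫ Rt.inv) ≫ Rt.hom) ≫ g2.hom = g1 ≫ n := by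
  simp

theorem aux_full {R : Type u₂} [Category.{v₂} R] {l₀ l₁ h₀ h₁ i₀ i₁ g₀ g₁ : R} {Fa : l₀ ⟶ l₁} {Bh : h₀ ⟶ h₁}
    {Bi : i₀ ⟶ i₁} {Gb : g₀ ⟶ g₁} (Lx : l₀ ≅ h₀) (Ry : i₁ ≅ g₁) {Ly : l₁ ⟶ h₁} {Rx : i₀ ⟶ g₀}
    {X₀ : h₀ ⟶ i₀} {Y₀ : h₁ ⟶ i₁} (n₁ : Fa ≫ Ly = Lx.hom ≫ Bh) (n₂ : Bi ≫ Ry.hom = Rx ≫ Gb)
    (hw : Fa ≫ Ly ≫ Y₀ ≫ Ry.hom = (Lx.hom ≫ X₀ ≫ Rx) ≫ Gb) : Bh ≫ Y₀ = X₀ ≫ Bi := by
  rw [reassoc_of% n₁, Category.assoc, Category.assoc, ← n₂, cancel_epi] at hw
  rwa [← cancel_mono Ry.hom, Category.assoc, Category.assoc]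

theorem map_full [ψ.left.Full] [ψ.right.Full] [ψ.base.Faithful] : (categoricalPullbackMap ψ).Full := by
  refine ⟨fun {x y} χ => ?_⟩
  obtain ⟨a, ha⟩ := ψ.left.map_surjective χ.fst
  obtain ⟨b, hb⟩ := ψ.right.map_surjective χ.snd
  refine ⟨{ fst := a, snd := b, w := ψ.base.map_injective ?_ }, CategoricalPullback.hom_ext ha hb⟩
  have hw := χ.w
  rw [map_iso, map_iso, ← ha, ← hb] at hw
  rw [Functor.map_comp, Functor.map_comp]
  exact aux_full (ψ.squareLeft.iso.app x.fst).symm (ψ.squareRight.iso.app y.snd)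
    (ψ.squareLeft.iso.inv.naturality a) (ψ.squareRight.iso.hom.naturality b) hw

theorem map_equiv [ψ.left.IsEquivalence] [ψ.right.IsEquivalence] [ψ.base.Full] [ψ.base.Faithful] :
    (categoricalPullbackMap ψ).IsEquivalence := by
  haveI := map_faithful ψ
  haveI := map_full ψ
  haveI : (categoricalPullbackMap ψ).EssSurj := ⟨fun z => by
    let a := ψ.left.objPreimage z.fst
    let b := ψ.right.objPreimage z.snd
    let ea : ψ.left.obj a ≅ z.fst := ψ.left.objObjPreimageIso z.fst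
    let eb : ψ.right.obj b ≅ z.snd := ψ.right.objObjPreimageIso z.snd
    let i : ψ.base.obj (H.obj a) ≅ ψ.base.obj (I.obj b) :=
      ψ.squareLeft.iso.app a ≪≫ F.mapIso ea ≪≫ z.iso ≪≫ (G.mapIso eb).symm ≪≫ (ψ.squareRight.iso.app b).symm
    refine ⟨{ fst := a, snd := b, iso := ψ.base.preimageIso i }, ⟨CategoricalPullback.mkIso ea eb ?_⟩⟩
    rw [map_iso]
    show F.map ea.hom ≫ z.iso.hom = (ψ.squareLeft.iso.inv.app a ≫ ψ.base.map (ψ.base.preimage i.hom) ≫
      ψ.squareRight.iso.hom.app b) ≫ G.map eb.hom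
    rw [ψ.base.map_preimage]
    simp [i]⟩
  exact {}

end Map

section Diag

variable {C : Type u} [Category.{v} C] {𝒮 : BasedCategory.{v₂, u₂} C}

theorem setoid_diag (h𝒮 : IsFibGrpd 𝒮.p) (U : C) (K : overCat U ⥤ᵇ fp (toSelf 𝒮) (toSelf 𝒮)) :
    IsFibSetoid (fpFst K (diag (toSelf 𝒮))).toFunctor := by
  refine ⟨isFibGrpd_fpFst (isFibGrpd_overCat U) h𝒮 (isFibGrpd_fp h𝒮 h𝒮 isFibGrpd_selfOver),
    thin_mk fun {a b} φ φ' hφ hφ' => ?_⟩
  have h1 : φ.hom.fst = φ'.hom.fst := hφ.map_eq.trans hφ'.map_eq.symm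
  have hw : (K.map φ.hom.fst).hom.fst ≫ b.obj.iso.hom.hom.fst = a.obj.iso.hom.hom.fst ≫ φ.hom.snd :=
    congrArg (fun m => m.hom.fst) φ.hom.w
  have hw' : (K.map φ'.hom.fst).hom.fst ≫ b.obj.iso.hom.hom.fst = a.obj.iso.hom.hom.fst ≫ φ'.hom.snd :=
    congrArg (fun m => m.hom.fst) φ'.hom.w
  rw [h1, hw'] at hw
  have i : a.obj.iso.inv.hom.fst ≫ a.obj.iso.hom.hom.fst = 𝟙 _ :=
    congrArg (fun m => m.hom.fst) a.obj.iso.inv_hom_id
  have := congrArg (fun m => a.obj.iso.inv.hom.fst ≫ m) hw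
  simp only [← Category.assoc, i] at this
  exact fp_ext h1 (((Category.id_comp _).symm.trans this.symm).trans (Category.id_comp _))

end Diag

end Groth.Agent.LeadFibCat
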