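import Groth.Prelude.Def_FibClv
import Mathlib.CategoryTheory.Bicategory.Grothendieck
import Mathlib.CategoryTheory.Bicategory.Functor.LocallyDiscrete
import Mathlib.CategoryTheory.Category.Cat

/-! Splittings and strict functors. -/

set_option autoImplicit false
set_option backward.isDefEq.respectTransparency false
set_option backward.isDefEq.respectTransparency.types false

universe v₁ v₂ v₃ u₁ u₂ u₃

open CategoryTheory CategoryTheory.Functor CategoryTheory.Pseudofunctor CategoryTheory.Pseudofunctor.CoGrothendieck FibCat Opposite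

namespace Groth.Agent.LeadSplit

section Strict

variable {𝒮 : Type u₁} [Category.{v₁} 𝒮] (F : 𝒮ᵒᵖ ⥤ Cat.{v₂, u₂})

abbrev Gr := Pseudofunctor.CoGrothendieck F.toPseudofunctor'

theorem mapId_inv (U : 𝒮) (a : F.obj (op U)) :
    ∃ h, ((F.toPseudofunctor'.mapId ⟨op U⟩).inv.toNatTrans.app a) = eqToHom h := by
  refine ⟨?_, ?_⟩
  rotate_left
  · simp only [Functor.toPseudofunctor'_mapId, eqToIso.inv]
    exact Cat.eqToHom_app _ _ _ a

theorem mapComp_inv {U V W : 𝒮} (f : V ⟶ U) (g : W ⟶ V) (a : F.obj (op U)) :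
    ∃ h, ((F.toPseudofunctor'.mapComp f.op.toLoc g.op.toLoc).inv.toNatTrans.app a) = eqToHom h := by
  refine ⟨?_, ?_⟩
  rotate_left
  · simp only [Functor.toPseudofunctor'_mapComp, eqToIso.inv]
    exact Cat.eqToHom_app _ _ _ a

variable {F}

/-- a morphism with trivial fibre part -/
def Triv {X Y : Gr F} (m : X ⟶ Y) : Prop := ∃ h, m.fiber = eqToHom h

theorem triv_id (X : Gr F) : Triv (𝟙 X) := by
  obtain ⟨h, hh⟩ := mapId_inv F X.base X.fiber
  exact ⟨h, hh⟩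

theorem triv_eqToHom {X Y : Gr F} (h : X = Y) : Triv (eqToHom h : X ⟶ Y) := by
  subst h; exact triv_id X

theorem triv_comp {X Y Z : Gr F} {m : X ⟶ Y} {n : Y ⟶ Z} (hm : Triv m) (hn : Triv n) : Triv (m ≫ n) := by
  obtain ⟨h1, e1⟩ := hm
  obtain ⟨h2, e2⟩ := hn
  obtain ⟨h3, e3⟩ := mapComp_inv F n.base m.base Z.fiber
  refine ⟨h1.trans ((congrArg _ h2).trans h3), ?_⟩
  show m.fiber ≫ (F.toPseudofunctor'.map m.base.op.toLoc).toFunctor.map n.fiber ≫ _ = _
  erw [e1, e2, e3, eqToHom_map, eqToHom_trans, eqToHom_trans]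

theorem triv_ext {X Y : Gr F} {m n : X ⟶ Y} (hm : Triv m) (hn : Triv n) (h : m.base = n.base) : m = n := by
  obtain ⟨h1, e1⟩ := hm
  obtain ⟨h2, e2⟩ := hn
  refine CoGrothendieck.Hom.ext m n h ?_
  rw [e1, e2, eqToHom_trans]

theorem triv_lift {R : 𝒮} {X : Gr F} (f : R ⟶ X.base) : Triv (cartesianLift X.fiber f) := ⟨rfl, rfl⟩

theorem ofCoGrothendieck_isSplitting : (Cleavage.ofCoGrothendieck F.toPseudofunctor').IsSplitting := by
  constructor
  · intro S a ha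
    have hobj : domainCartesianLift a.fiber (𝟙 S ≫ eqToHom ha.symm) = a := by
      obtain ⟨b, x⟩ := a
      obtain rfl : b = S := ha
      show CoGrothendieck.mk _ _ = CoGrothendieck.mk _ _
      congr 1
      show (F.map ((𝟙 b ≫ 𝟙 b).op)).toFunctor.obj x = x
      rw [Category.id_comp, op_id, F.map_id]
      rfl
    refine ⟨hobj, triv_ext (triv_lift _) (triv_eqToHom _) ?_⟩
    have := eqToHom_map (CoGrothendieck.forget F.toPseudofunctor') hobj
    exact ((Category.id_comp _).trans this.symm :)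
  · intro S T U f g a ha
    have hobj : domainCartesianLift (domainCartesianLift a.fiber (f ≫ eqToHom ha.symm)).fiber (g ≫ 𝟙 T) =
        domainCartesianLift a.fiber ((g ≫ f) ≫ eqToHom ha.symm) := by
      show CoGrothendieck.mk _ _ = CoGrothendieck.mk _ _
      congr 1
      show (F.map ((g ≫ 𝟙 T).op)).toFunctor.obj ((F.map ((f ≫ eqToHom ha.symm).op)).toFunctor.obj a.fiber) =
        (F.map (((g ≫ f) ≫ eqToHom ha.symm).op)).toFunctor.obj a.fiber
      rw [Category.comp_id, Category.assoc, op_comp (f := g), F.map_comp]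
      rfl
    refine ⟨hobj, triv_ext (triv_comp (triv_lift _) (triv_lift _)) (triv_comp (triv_eqToHom _) (triv_lift _)) ?_⟩
    have := eqToHom_map (CoGrothendieck.forget F.toPseudofunctor') hobj
    show (g ≫ 𝟙 T) ≫ (f ≫ eqToHom ha.symm) = (CoGrothendieck.forget F.toPseudofunctor').map (eqToHom hobj) ≫ ((g ≫ f) ≫ eqToHom ha.symm)
    rw [this, eqToHom_refl, Category.id_comp, Category.comp_id, Category.assoc]

end Strict

section Transfer

variable {𝒮 : Type u₁} [Category.{v₁} 𝒮] {𝒳 : Type u₂} [Category.{v₂} 𝒳] {𝒴 : Type u₃} [Category.{v₃} 𝒴]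

theorem map_inj {Φ : 𝒳 ⥤ 𝒴} {Ψ : 𝒴 ⥤ 𝒳} (h₁ : Φ ⋙ Ψ = 𝟭 𝒳) {a b : 𝒳} {φ φ' : a ⟶ b} (h : Φ.map φ = Φ.map φ') : φ = φ' := by
  have e : ∀ {a b : 𝒳} (φ : a ⟶ b), φ = eqToHom (congrFun (congrArg Functor.obj h₁) a).symm ≫ Ψ.map (Φ.map φ) ≫
      eqToHom (congrFun (congrArg Functor.obj h₁) b) := fun φ => (Functor.congr_hom h₁.symm φ : _)
  rw [e φ, e φ', h]

theorem exists_splitting_of_iso (q : 𝒴 ⥤ 𝒮) (L : Cleavage q) (hL : L.IsSplitting) (Φ : 𝒳 ⥤ 𝒴) (Ψ : 𝒴 ⥤ 𝒳)
    (h₁ : Φ ⋙ Ψ = 𝟭 𝒳) (h₂ : Ψ ⋙ Φ = 𝟭 𝒴) : ∃ K : Cleavage (Φ ⋙ q), K.IsSplitting := by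
  have hΨ : ∀ y, Φ.obj (Ψ.obj y) = y := fun y => congrFun (congrArg Functor.obj h₂) y
  have hΦ : ∀ x, Ψ.obj (Φ.obj x) = x := fun x => congrFun (congrArg Functor.obj h₁) x
  have hmap : ∀ {y y' : 𝒴} (m : y ⟶ y'), Φ.map (Ψ.map m) = eqToHom (hΨ y) ≫ m ≫ eqToHom (hΨ y').symm :=
    fun m => (Functor.congr_hom h₂ m : _)
  let lift' : ∀ {R S : 𝒮} {a : 𝒳} (ha : q.obj (Φ.obj a) = S) (f : R ⟶ S), Ψ.obj (L.obj ha f) ⟶ a :=
    fun {_ _ a} ha f => Ψ.map (L.lift ha f) ≫ eqToHom (hΦ a)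
  have hlift : ∀ {R S : 𝒮} {a : 𝒳} (ha : q.obj (Φ.obj a) = S) (f : R ⟶ S),
      Φ.map (lift' ha f) = eqToHom (hΨ _) ≫ L.lift ha f := fun {_ _ a} ha f => by
    simp only [lift', Functor.map_comp, hmap, eqToHom_map, Category.assoc, eqToHom_trans, eqToHom_refl, Category.comp_id]
  have hcart : ∀ {R S : 𝒮} {a : 𝒳} (ha : q.obj (Φ.obj a) = S) (f : R ⟶ S),
      (Φ ⋙ q).IsCartesian f (lift' ha f) := fun {R S a} ha f => by
    haveI : (Φ ⋙ q).IsHomLift f (lift' ha f) := by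
      refine IsHomLift.of_fac' _ _ _ ((congrArg q.obj (hΨ _)).trans (L.obj_proj ha f)) ha ?_
      show q.map (Φ.map (lift' ha f)) = _
      rw [hlift, Functor.map_comp, eqToHom_map, IsHomLift.fac' q f (L.lift ha f)]
      simp
    constructor
    intro b ψ hψ
    haveI : q.IsHomLift f (Φ.map ψ) := IsHomLift.of_fac' _ _ _ (IsHomLift.domain_eq (Φ ⋙ q) f ψ) ha
      (IsHomLift.fac' (Φ ⋙ q) f ψ)
    let χ := IsCartesian.map q f (L.lift ha f) (Φ.map ψ)
    have hχ : χ ≫ L.lift ha f = Φ.map ψ := IsCartesian.fac q f _ _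
    have hχ' : Φ.map (eqToHom (hΦ b).symm ≫ Ψ.map χ) = χ ≫ eqToHom (hΨ _).symm := by
      simp only [Functor.map_comp, hmap, eqToHom_map, eqToHom_trans_assoc, eqToHom_refl, Category.id_comp]
    refine ⟨eqToHom (hΦ b).symm ≫ Ψ.map χ, ⟨?_, ?_⟩, fun χ' ⟨h', e'⟩ => ?_⟩
    · refine IsHomLift.of_fac' _ _ _ (IsHomLift.domain_eq (Φ ⋙ q) f ψ) ((congrArg q.obj (hΨ _)).trans (L.obj_proj ha f)) ?_
      show q.map (Φ.map (eqToHom (hΦ b).symm ≫ Ψ.map χ)) = _
      rw [hχ', Functor.map_comp, eqToHom_map, IsHomLift.fac' q (𝟙 R) χ]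
      simp
    · refine map_inj h₁ ?_
      rw [Functor.map_comp, hχ', hlift, Category.assoc, eqToHom_trans_assoc, eqToHom_refl, Category.id_comp, hχ]
    · refine map_inj h₁ ?_
      rw [hχ']
      have hc : (Φ.map χ' ≫ eqToHom (hΨ _)) = χ := by
        haveI : q.IsHomLift (𝟙 R) (Φ.map χ' ≫ eqToHom (hΨ (L.obj ha f))) := by
          refine IsHomLift.of_fac' _ _ _ (IsHomLift.domain_eq (Φ ⋙ q) f ψ) (L.obj_proj ha f) ?_
          rw [Functor.map_comp, eqToHom_map]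
          show (Φ ⋙ q).map χ' ≫ _ = _
          rw [IsHomLift.fac' (Φ ⋙ q) (𝟙 R) χ']
          simp
        refine IsCartesian.map_uniq q f (L.lift ha f) (Φ.map ψ) _ ?_
        rw [Category.assoc, ← hlift, ← Functor.map_comp, e']
      rw [← hc, Category.assoc, eqToHom_trans, eqToHom_refl, Category.comp_id]
  let K : Cleavage (Φ ⋙ q) := ⟨fun ha f => Ψ.obj (L.obj ha f), fun ha f => lift' ha f, fun ha f => hcart ha f⟩
  refine ⟨K, fun S a ha => ?_, fun S T U f g a ha => ?_⟩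
  · obtain ⟨h, e⟩ := @hL.1 S (Φ.obj a) ha
    refine ⟨(congrArg Ψ.obj h).trans (hΦ a), map_inj h₁ ?_⟩
    show Φ.map (lift' ha (𝟙 S)) = _
    rw [hlift, e, eqToHom_map, eqToHom_trans]
  · obtain ⟨h, e⟩ := @hL.2 S T U f g (Φ.obj a) ha
    have hc : ∀ {y : 𝒴} (hy : q.obj y = T) (e : y = L.obj ha f),
        ∃ h' : L.obj hy g = L.obj (L.obj_proj ha f) g,
          L.lift hy g ≫ eqToHom e = eqToHom h' ≫ L.lift (L.obj_proj ha f) g := by
      intro y hy e; subst e; exact ⟨rfl, by simp⟩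
    obtain ⟨h', e'⟩ := hc ((congrArg q.obj (hΨ _)).trans (L.obj_proj ha f)) (hΨ _)
    refine ⟨congrArg Ψ.obj (h'.trans h), map_inj h₁ ?_⟩
    show Φ.map (lift' (a := Ψ.obj (L.obj ha f)) ((congrArg q.obj (hΨ _)).trans (L.obj_proj ha f)) g ≫ lift' ha f) =
      Φ.map (eqToHom _ ≫ lift' ha (g ≫ f))
    simp only [lift', Functor.map_comp, hmap, eqToHom_map, Category.assoc, eqToHom_trans, eqToHom_trans_assoc, eqToHom_refl, Category.id_comp, Category.comp_id]
    rw [reassoc_of% e', e]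
    simp

end Transfer

section OfSplitting

variable {𝒮 : Type u₁} [Category.{v₁} 𝒮] {𝒳 : Type u₂} [Category.{v₂} 𝒳] {p : 𝒳 ⥤ 𝒮} {K : Cleavage p}

theorem val_eqToHom {U : 𝒮} {a b : p.Fiber U} (h : a = b) :
    (eqToHom h : a ⟶ b).1 = eqToHom (congrArg Subtype.val h) := by subst h; rfl

theorem inverseImage_id (hK : K.IsSplitting) (U : 𝒮) : K.inverseImage (𝟙 U) = 𝟭 (p.Fiber U) := by
  refine CategoryTheory.Functor.ext (fun a => Subtype.ext (hK.1 a.2).choose) fun a b φ => Fiber.hom_ext ?_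
  obtain ⟨ha, ea⟩ := hK.1 a.2
  obtain ⟨hb, eb⟩ := hK.1 b.2
  rw [Cleavage.inverseImage_map, Functor.map_comp, Functor.map_comp, eqToHom_map, eqToHom_map]
  symm
  haveI : p.IsHomLift (𝟙 U) (eqToHom ha ≫ Fiber.fiberInclusion.map φ ≫ eqToHom hb.symm) := by
    haveI := φ.2
    exact IsHomLift.of_fac' _ _ _ (K.obj_proj a.2 _) (K.obj_proj b.2 _) (by
      simp [IsHomLift.fac' p (𝟙 U) φ.1, eqToHom_map, show Fiber.fiberInclusion.map φ = φ.1 from rfl])
  refine IsCartesian.map_uniq p (𝟙 U) (K.lift b.2 (𝟙 U)) _ (eqToHom ha ≫ Fiber.fiberInclusion.map φ ≫ eqToHom hb.symm) ?_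
  simp only [ea, eb, Category.assoc, eqToHom_trans, eqToHom_refl, Category.comp_id]

theorem inverseImage_comp (hK : K.IsSplitting) {U V W : 𝒮} (f : V ⟶ U) (g : W ⟶ V) :
    K.inverseImage (g ≫ f) = K.inverseImage f ⋙ K.inverseImage g := by
  refine CategoryTheory.Functor.ext (fun a => Subtype.ext (hK.2 f g a.2).choose.symm) fun a b φ => Fiber.hom_ext ?_
  obtain ⟨ha, ea⟩ := hK.2 f g a.2
  obtain ⟨hb, eb⟩ := hK.2 f g b.2
  rw [Cleavage.inverseImage_map, Functor.map_comp, Functor.map_comp, eqToHom_map, eqToHom_map]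
  symm
  let m := Fiber.fiberInclusion.map ((K.inverseImage g).map ((K.inverseImage f).map φ))
  haveI : p.IsHomLift (𝟙 W) (eqToHom ha.symm ≫ m ≫ eqToHom hb) := by
    haveI := ((K.inverseImage g).map ((K.inverseImage f).map φ)).2
    exact IsHomLift.of_fac' _ _ _ (K.obj_proj a.2 _) (K.obj_proj b.2 _) (by
      rw [show m = ((K.inverseImage g).map ((K.inverseImage f).map φ)).1 from rfl, Functor.map_comp, Functor.map_comp,
        IsHomLift.fac' p (𝟙 W) ((K.inverseImage g).map ((K.inverseImage f).map φ)).1, eqToHom_map, eqToHom_map]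
      simp)
  refine IsCartesian.map_uniq p (g ≫ f) (K.lift b.2 (g ≫ f)) _ (eqToHom ha.symm ≫ m ≫ eqToHom hb) ?_
  have h1 : m ≫ K.lift (K.obj_proj b.2 f) g = K.lift (K.obj_proj a.2 f) g ≫ Fiber.fiberInclusion.map ((K.inverseImage f).map φ) :=
    IsCartesian.fac p g _ _
  have h2 : Fiber.fiberInclusion.map ((K.inverseImage f).map φ) ≫ K.lift b.2 f = K.lift a.2 f ≫ Fiber.fiberInclusion.map φ :=
    IsCartesian.fac p f _ _
  rw [Category.assoc, Category.assoc, ← eb, reassoc_of% h1, h2, reassoc_of% ea, eqToHom_trans_assoc, eqToHom_refl,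
    Category.id_comp]

/-- the strict functor of a splitting -/
noncomputable def splitF (hK : K.IsSplitting) : 𝒮ᵒᵖ ⥤ Cat.{v₂, u₂} where
  obj U := Cat.of (p.Fiber U.unop)
  map f := (K.inverseImage f.unop).toCatHom
  map_id U := Cat.Hom.ext (inverseImage_id hK U.unop)
  map_comp f g := Cat.Hom.ext (inverseImage_comp hK f.unop g.unop)

theorem lift_congr {R S : 𝒮} {a : 𝒳} {f f' : R ⟶ S} (ha : p.obj a = S) (e : f = f') (h : K.obj ha f = K.obj ha f') :
    eqToHom h ≫ K.lift ha f' = K.lift ha f := by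
  subst e; simp

variable (hK : K.IsSplitting)

/-- forgetting the pairs -/
noncomputable def psi : Gr (splitF hK) ⥤ 𝒳 where
  obj X := X.fiber.1
  map {X Y} m := m.fiber.1 ≫ K.lift Y.fiber.2 m.base
  map_id X := by
    obtain ⟨h, hh⟩ := mapId_inv (splitF hK) X.base X.fiber
    obtain ⟨h', e'⟩ := hK.1 X.fiber.2
    show (((splitF hK).toPseudofunctor'.mapId ⟨op X.base⟩).inv.toNatTrans.app X.fiber).1 ≫ K.lift X.fiber.2 (𝟙 X.base) = _
    refine (congrArg₂ (· ≫ ·) ((congrArg Subtype.val hh).trans (val_eqToHom _)) e').trans ?_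
    exact (eqToHom_trans _ _).trans (eqToHom_refl _ _)
  map_comp {X Y Z} a b := by
    obtain ⟨h, hh⟩ := mapComp_inv (splitF hK) b.base a.base Z.fiber
    obtain ⟨h', e'⟩ := hK.2 b.base a.base Z.fiber.2
    show (a.fiber.1 ≫ ((K.inverseImage a.base).map b.fiber).1 ≫
        (((splitF hK).toPseudofunctor'.mapComp b.base.op.toLoc a.base.op.toLoc).inv.toNatTrans.app Z.fiber).1) ≫
        K.lift Z.fiber.2 (a.base ≫ b.base) = (a.fiber.1 ≫ K.lift Y.fiber.2 a.base) ≫ b.fiber.1 ≫ K.lift Z.fiber.2 b.base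
    have h1 : ((K.inverseImage a.base).map b.fiber).1 ≫ K.lift (K.obj_proj Z.fiber.2 b.base) a.base =
        K.lift Y.fiber.2 a.base ≫ b.fiber.1 := IsCartesian.fac p a.base _ _
    rw [Category.assoc, Category.assoc, Category.assoc, ← reassoc_of% h1, e', hh]
    congr 2
    exact congrArg (· ≫ K.lift Z.fiber.2 (a.base ≫ b.base)) (val_eqToHom _)

theorem psi_ext {X Y : Gr (splitF hK)} {m m' : X ⟶ Y} (hb : m.base = m'.base) (h : (psi hK).map m = (psi hK).map m') :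
    m = m' := by
  obtain ⟨b, a⟩ := m
  obtain ⟨b', a'⟩ := m'
  obtain rfl : b = b' := hb
  have : a = a' := by
    apply Subtype.ext
    haveI := a.2
    haveI := a'.2
    exact IsCartesian.ext p b (K.lift Y.fiber.2 b) a.1 a'.1 h
  rw [this]

/-- the comparison -/
noncomputable def phi : 𝒳 ⥤ Gr (splitF hK) where
  obj x := ⟨p.obj x, ⟨x, rfl⟩⟩
  map {x y} φ := ⟨p.map φ, Fiber.homMk p (p.obj x) (IsCartesian.map p (p.map φ) (K.lift rfl (p.map φ)) φ)⟩
  map_id x := psi_ext hK (p.map_id x) ((IsCartesian.fac p (p.map (𝟙 x)) _ _).trans ((psi hK).map_id (⟨p.obj x, ⟨x, rfl⟩⟩ : Gr (splitF hK))).symm)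
  map_comp {x y z} φ ψ := psi_ext hK (p.map_comp φ ψ) (by
    refine (IsCartesian.fac p (p.map (φ ≫ ψ)) _ _).trans ?_
    rw [(psi hK).map_comp]
    exact (congrArg₂ (· ≫ ·) (IsCartesian.fac p (p.map φ) _ _) (IsCartesian.fac p (p.map ψ) _ _)).symm)

theorem phi_psi : phi hK ⋙ psi hK = 𝟭 𝒳 :=
  CategoryTheory.Functor.ext (fun _ => rfl) fun x y φ => by
    simp only [eqToHom_refl, Category.comp_id, Category.id_comp, Functor.id_map]
    exact IsCartesian.fac p (p.map φ) _ _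

theorem psi_phi : psi hK ⋙ phi hK = 𝟭 _ := by
  have hobj : ∀ X : Gr (splitF hK), (phi hK).obj ((psi hK).obj X) = X := fun X => by
    obtain ⟨U, ⟨a, ha⟩⟩ := X
    obtain rfl : U = p.obj a := ha.symm
    rfl
  refine CategoryTheory.Functor.ext hobj fun X Y m => psi_ext hK ?_ ?_
  · show p.map (m.fiber.1 ≫ K.lift Y.fiber.2 m.base) =
      (CoGrothendieck.forget _).map (eqToHom (hobj X) ≫ m ≫ eqToHom (hobj Y).symm)
    haveI := m.fiber.2
    rw [Functor.map_comp, Functor.map_comp, Functor.map_comp, eqToHom_map, eqToHom_map,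
      IsHomLift.fac' p (𝟙 X.base) m.fiber.1, IsHomLift.fac' p m.base (K.lift Y.fiber.2 m.base)]
    simp
  · show (psi hK).map ((phi hK).map ((psi hK).map m)) = _
    rw [Functor.map_comp, Functor.map_comp, eqToHom_map, eqToHom_map]
    refine (IsCartesian.fac p (p.map ((psi hK).map m)) _ _).trans ?_
    exact ((Category.id_comp _).trans (Category.comp_id _)).symm

theorem phi_forget : phi hK ⋙ CoGrothendieck.forget _ = p := rfl

end OfSplitting

end Groth.Agent.LeadSplit
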