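import Groth.Agent.Lead.FibCat.Fibre
import Mathlib.CategoryTheory.Bicategory.Grothendieck
import Mathlib.CategoryTheory.Bicategory.Functor.LocallyDiscrete
import Mathlib.CategoryTheory.Category.Cat

/-! Every fibred category is equivalent to a split one (2-Yoneda strictification). -/

set_option autoImplicit false
set_option backward.isDefEq.respectTransparency false
set_option backward.isDefEq.respectTransparency.types false

universe v u

open CategoryTheory CategoryTheory.Limits CategoryTheory.Functor FibCat Opposite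

namespace Groth.Agent.LeadFibCat

variable {C : Type u} [Category.{v} C]

/-- base change along a morphism of `C` -/
abbrev ov {U V : C} (f : V ⟶ U) : overCat.{v, u} V ⥤ᵇ overCat.{v, u} U :=
  ⟨Over.map f, Over.mapForget_eq f⟩

/-- the terminal object of `C/U` -/
abbrev top (U : C) : Over U := Over.mk (𝟙 U)

theorem toTop_unique {U : C} {u : Over U} (m : u ⟶ top U) : m = toTop u :=
  Over.OverMorphism.ext ((Category.comp_id _).symm.trans (Over.w m))

theorem based_ext {𝒜 ℬ : BasedCategory.{v, max u v} C} {G H : 𝒜 ⥤ᵇ ℬ} (h : G.toFunctor = H.toFunctor) : G = H := by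
  cases G; cases H; congr

variable (𝒳 : BasedCategory.{v, max u v} C)

/-- objects of the strict fibre -/
structure SplitObj (U : C) where
  G : overCat U ⥤ᵇ 𝒳
  pres : PSC G

variable {𝒳}

theorem SplitObj.sc {U : C} (A : SplitObj 𝒳 U) {u u' : Over U} (m : u ⟶ u') :
    𝒳.p.IsStronglyCartesian (𝒳.p.map (A.G.map m)) (A.G.map m) :=
  A.pres m ((isFibGrpd_overCat U).isStronglyCartesian _)

instance splitCat (U : C) : Category.{v} (SplitObj 𝒳 U) where
  Hom A B := { θ : A.G.obj (top U) ⟶ B.G.obj (top U) // Vert 𝒳.p θ }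
  id A := ⟨𝟙 _, Vert.id _⟩
  comp a b := ⟨a.1 ≫ b.1, Vert.comp a.2 b.2⟩
  id_comp a := Subtype.ext (Category.id_comp a.1)
  comp_id a := Subtype.ext (Category.comp_id a.1)
  assoc a b c := Subtype.ext (Category.assoc a.1 b.1 c.1)

theorem at_exists {U : C} {A B : SplitObj 𝒳 U} (θ : A ⟶ B) (u : Over U) :
    ∃ χ : A.G.obj u ⟶ B.G.obj u, Vert 𝒳.p χ ∧ χ ≫ B.G.map (toTop u) = A.G.map (toTop u) ≫ θ.1 := by
  obtain ⟨χ, h1, h2⟩ := sc_exists (B.sc (toTop u)) (A.G.map (toTop u) ≫ θ.1)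
    (eqToHom ((pobj A.G u).trans (pobj B.G u).symm))
    (by rw [Functor.map_comp, pmap, pmap, θ.2.map_eq]; simp)
  exact ⟨χ, ⟨_, h1⟩, h2⟩

/-- the component of a morphism at an object -/
noncomputable def cpt {U : C} {A B : SplitObj 𝒳 U} (θ : A ⟶ B) (u : Over U) : A.G.obj u ⟶ B.G.obj u :=
  (at_exists θ u).choose

theorem cpt_vert {U : C} {A B : SplitObj 𝒳 U} (θ : A ⟶ B) (u : Over U) : Vert 𝒳.p (cpt θ u) :=
  (at_exists θ u).choose_spec.1

theorem cpt_comm {U : C} {A B : SplitObj 𝒳 U} (θ : A ⟶ B) (u : Over U) :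
    cpt θ u ≫ B.G.map (toTop u) = A.G.map (toTop u) ≫ θ.1 :=
  (at_exists θ u).choose_spec.2

theorem cpt_eq {U : C} {A B : SplitObj 𝒳 U} (θ : A ⟶ B) (u : Over U) {χ : A.G.obj u ⟶ B.G.obj u}
    (h : Vert 𝒳.p χ) (h' : χ ≫ B.G.map (toTop u) = A.G.map (toTop u) ≫ θ.1) : cpt θ u = χ :=
  sc_ext (B.sc (toTop u)) (by rw [(cpt_vert θ u).map_eq, h.map_eq]) ((cpt_comm θ u).trans h'.symm)

theorem cpt_top {U : C} {A B : SplitObj 𝒳 U} (θ : A ⟶ B) : cpt θ (top U) = θ.1 := by
  refine cpt_eq θ _ θ.2 ?_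
  rw [← toTop_unique (𝟙 (top U)), A.G.toFunctor.map_id, B.G.toFunctor.map_id, Category.comp_id, Category.id_comp]

theorem cpt_id {U : C} (A : SplitObj 𝒳 U) (u : Over U) : cpt (𝟙 A) u = 𝟙 _ :=
  cpt_eq _ _ (Vert.id _) ((Category.id_comp _).trans (Category.comp_id _).symm)

theorem cpt_comp {U : C} {A B D : SplitObj 𝒳 U} (a : A ⟶ B) (b : B ⟶ D) (u : Over U) :
    cpt (a ≫ b) u = cpt a u ≫ cpt b u := by
  refine cpt_eq _ _ (Vert.comp (cpt_vert a u) (cpt_vert b u)) ?_
  rw [Category.assoc, cpt_comm, reassoc_of% cpt_comm a u]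
  rfl

theorem cpt_congr {U : C} {A B : SplitObj 𝒳 U} (θ : A ⟶ B) {u u' : Over U} (e : u = u') :
    cpt θ u = eqToHom (congrArg A.G.obj e) ≫ cpt θ u' ≫ eqToHom (congrArg B.G.obj e.symm) := by
  subst e; simp

/-- pull-back of the strict fibres -/
noncomputable def pb {U V : C} (f : V ⟶ U) : SplitObj 𝒳 U ⥤ SplitObj 𝒳 V where
  obj A := ⟨BasedFunctor.comp (ov f) A.G, fun m _ => A.sc ((Over.map f).map m)⟩
  map θ := ⟨cpt θ ((Over.map f).obj (top V)), cpt_vert θ _⟩
  map_id A := Subtype.ext (cpt_id A _)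
  map_comp a b := Subtype.ext (cpt_comp a b _)

theorem cpt_pb {U V : C} (f : V ⟶ U) {A B : SplitObj 𝒳 U} (θ : A ⟶ B) (w : Over V) :
    cpt ((pb f).map θ) w = cpt θ ((Over.map f).obj w) := by
  refine cpt_eq ((pb f).map θ) w (cpt_vert θ _) ?_
  show cpt θ ((Over.map f).obj w) ≫ B.G.map ((Over.map f).map (toTop w)) =
    A.G.map ((Over.map f).map (toTop w)) ≫ cpt θ ((Over.map f).obj (top V))
  refine sc_ext (B.sc (toTop ((Over.map f).obj (top V)))) ?_ ?_
  · rw [Functor.map_comp, Functor.map_comp, (cpt_vert θ _).map_eq, (cpt_vert θ _).map_eq, pmap, pmap]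
    simp
  · rw [Category.assoc, Category.assoc, cpt_comm, ← Functor.map_comp, ← Category.assoc, ← Functor.map_comp,
      toTop_unique ((Over.map f).map (toTop w) ≫ toTop _), cpt_comm]

theorem val_eqToHom {U : C} {A B : SplitObj 𝒳 U} (h : A = B) :
    (eqToHom h : A ⟶ B).1 = eqToHom (congrArg (fun D => D.G.obj (top U)) h) := by
  subst h; rfl

theorem pb_ext {U V : C} (f : V ⟶ U) (K : SplitObj 𝒳 U ⥤ SplitObj 𝒳 V)
    (hobj : ∀ A, (pb f).obj A = K.obj A)
    (hmap : ∀ {A B} (θ : A ⟶ B), cpt θ ((Over.map f).obj (top V)) =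
      eqToHom (congrArg (fun D => D.G.obj (top V)) (hobj A)) ≫ (K.map θ).1 ≫
        eqToHom (congrArg (fun D => D.G.obj (top V)) (hobj B).symm)) : pb f = K :=
  CategoryTheory.Functor.ext hobj fun A B θ => Subtype.ext
    ((hmap θ).trans (by rw [← val_eqToHom, ← val_eqToHom]; rfl))

theorem pb_id (U : C) : pb (𝒳 := 𝒳) (𝟙 U) = 𝟭 _ := by
  have hobj : ∀ A : SplitObj 𝒳 U, (pb (𝟙 U)).obj A = A := fun A => by
    obtain ⟨G, hG⟩ := A
    show SplitObj.mk _ _ = SplitObj.mk _ _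
    congr 1
    exact based_ext (show Over.map (𝟙 U) ⋙ G.toFunctor = G.toFunctor by rw [Over.mapId_eq]; rfl)
  refine pb_ext _ _ hobj fun {A B} θ => ?_
  have e : (Over.map (𝟙 U)).obj (top U) = top U := by rw [Over.mapId_eq]; rfl
  rw [cpt_congr θ e, cpt_top]
  rfl

theorem pb_comp {U V W : C} (f : V ⟶ U) (g : W ⟶ V) : pb (𝒳 := 𝒳) (g ≫ f) = pb f ⋙ pb g := by
  have hobj : ∀ A : SplitObj 𝒳 U, (pb (g ≫ f)).obj A = (pb f ⋙ pb g).obj A := fun A => by
    show SplitObj.mk _ _ = SplitObj.mk _ _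
    congr 1
    exact based_ext (show Over.map (g ≫ f) ⋙ A.G.toFunctor = Over.map g ⋙ Over.map f ⋙ A.G.toFunctor by
      rw [Over.mapComp_eq]; rfl)
  refine pb_ext _ _ hobj fun {A B} θ => ?_
  have e : (Over.map (g ≫ f)).obj (top W) = (Over.map f).obj ((Over.map g).obj (top W)) := by
    rw [Over.mapComp_eq]; rfl
  show _ = _ ≫ cpt ((pb f).map θ) ((Over.map g).obj (top W)) ≫ _
  rw [cpt_pb, cpt_congr θ e]

variable (𝒳)

/-- the strict functor -/
noncomputable def strict : Cᵒᵖ ⥤ Cat.{v, max u v} where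
  obj U := Cat.of (SplitObj 𝒳 U.unop)
  map f := (pb f.unop).toCatHom
  map_id U := Cat.Hom.ext (pb_id U.unop)
  map_comp f g := Cat.Hom.ext (pb_comp f.unop g.unop)

theorem mapId_val (U : C) (A : SplitObj 𝒳 U) :
    ∃ h, (((strict 𝒳).toPseudofunctor'.mapId ⟨op U⟩).inv.toNatTrans.app A).1 = eqToHom h := by
  refine ⟨?_, ?_⟩
  rotate_left
  · simp only [Functor.toPseudofunctor'_mapId, eqToIso.inv]
    erw [Cat.eqToHom_app]
    exact val_eqToHom _

theorem mapComp_val {U V W : C} (f : V ⟶ U) (g : W ⟶ V) (A : SplitObj 𝒳 U) :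
    ∃ h, (((strict 𝒳).toPseudofunctor'.mapComp f.op.toLoc g.op.toLoc).inv.toNatTrans.app A).1 = eqToHom h := by
  refine ⟨?_, ?_⟩
  rotate_left
  · simp only [Functor.toPseudofunctor'_mapComp, eqToIso.inv]
    erw [Cat.eqToHom_app]
    exact val_eqToHom _

/-- the comparison functor -/
noncomputable def strictEval :
    BasedCategory.ofFunctor (Pseudofunctor.CoGrothendieck.forget (strict 𝒳).toPseudofunctor') ⥤ᵇ 𝒳 where
  toFunctor :=
    { obj := fun X => X.fiber.G.obj (top X.base)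
      map := fun {X Y} m => m.fiber.1 ≫ Y.fiber.G.map (toTop ((Over.map m.base).obj (top X.base)))
      map_id := fun X => by
        obtain ⟨h, hh⟩ := mapId_val 𝒳 X.base X.fiber
        rw [Pseudofunctor.CoGrothendieck.categoryStruct_id_fiber]
        show (((strict 𝒳).toPseudofunctor'.mapId ⟨op X.base⟩).inv.toNatTrans.app X.fiber).1 ≫
          X.fiber.G.map (toTop ((Over.map (𝟙 X.base)).obj (top X.base))) = _
        have e : (Over.map (𝟙 X.base)).obj (top X.base) = top X.base := by rw [Over.mapId_eq]; rfl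
        refine (congrArg₂ (· ≫ ·) hh ((congrArg X.fiber.G.map (toTop_unique (eqToHom e)).symm).trans
          (eqToHom_map _ _))).trans ?_
        exact (eqToHom_trans _ _).trans (eqToHom_refl _ _)
      map_comp := fun {X Y Z} a b => by
        rw [Pseudofunctor.CoGrothendieck.categoryStruct_comp_fiber]
        obtain ⟨h, hh⟩ := mapComp_val 𝒳 b.base a.base Z.fiber
        show (a.fiber.1 ≫ cpt b.fiber ((Over.map a.base).obj (top X.base)) ≫
          (((strict 𝒳).toPseudofunctor'.mapComp b.base.op.toLoc a.base.op.toLoc).inv.toNatTrans.app Z.fiber).1) ≫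
          Z.fiber.G.map (toTop ((Over.map (a.base ≫ b.base)).obj (top X.base))) = _
        rw [hh, Category.assoc, Category.assoc, Category.assoc]
        congr 1
        rw [← reassoc_of% cpt_comm b.fiber ((Over.map a.base).obj (top X.base))]
        congr 1
        show eqToHom h ≫ Z.fiber.G.map (toTop ((Over.map (a.base ≫ b.base)).obj (top X.base))) =
          Z.fiber.G.map ((Over.map b.base).map (toTop ((Over.map a.base).obj (top X.base)))) ≫
            Z.fiber.G.map (toTop ((Over.map b.base).obj (top Y.base)))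
        have e : (Over.map b.base).obj ((Over.map a.base).obj (top X.base)) =
            (Over.map (a.base ≫ b.base)).obj (top X.base) := by rw [Over.mapComp_eq]; rfl
        rw [← Functor.map_comp, toTop_unique ((Over.map b.base).map (toTop _) ≫ toTop _),
          ← toTop_unique (eqToHom e ≫ toTop _), Functor.map_comp, eqToHom_map] }
  w := by
    refine CategoryTheory.Functor.ext (fun X => pobj X.fiber.G (top X.base)) fun X Y m => ?_
    show 𝒳.p.map (_ ≫ _) = _
    rw [Functor.map_comp, m.fiber.2.map_eq, pmap]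
    simp
    exact congrArg (eqToHom _ ≫ ·) (congrArg (· ≫ eqToHom _) (Category.id_comp m.base))

variable {𝒳}

theorem strictEval_isEquivOver (h𝒳 : 𝒳.p.IsFibered) : IsEquivOver (strictEval 𝒳) := by
  refine isEquivOver_mk _ (fun {X Y} ψ => ?_) (fun {X Y} φ φ' h => ?_) (fun η => ?_)
  · let f : X.base ⟶ Y.base := eqToHom (pobj X.fiber.G (top X.base)).symm ≫ 𝒳.p.map ψ ≫ eqToHom (pobj Y.fiber.G (top Y.base))
    let u := (Over.map f).obj (top X.base)
    obtain ⟨χ, h1, h2⟩ := sc_exists (Y.fiber.sc (toTop u)) ψ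
      (eqToHom ((pobj X.fiber.G _).trans (pobj Y.fiber.G u).symm)) (by
        rw [pmap]
        show _ ≫ eqToHom _ ≫ (𝟙 X.base ≫ f) ≫ eqToHom _ = _
        simp [f])
    exact ⟨⟨f, ⟨χ, _, h1⟩⟩, h2⟩
  · have hb : φ.base = φ'.base := by
      have := congrArg 𝒳.p.map h
      rw [pmap, pmap] at this
      exact (cancel_mono _).1 ((cancel_epi _).1 this)
    obtain ⟨b, a⟩ := φ
    obtain ⟨b', a'⟩ := φ'
    obtain rfl : b = b' := hb
    have : a = a' := Subtype.ext (sc_ext (Y.fiber.sc (toTop _)) (by rw [a.2.map_eq, a'.2.map_eq]) h)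
    rw [this]
  · obtain ⟨G, e, hG, he⟩ := yoneda_ess h𝒳 η rfl
    exact ⟨⟨𝒳.p.obj η, ⟨G, hG⟩⟩, e, he⟩

theorem exists_equiv_strict (h𝒳 : 𝒳.p.IsFibered) :
    ∃ E : 𝒳 ⥤ᵇ BasedCategory.ofFunctor (Pseudofunctor.CoGrothendieck.forget (strict 𝒳).toPseudofunctor'),
      IsEquivOver E := by
  obtain ⟨G, ⟨u⟩, ⟨c⟩⟩ := strictEval_isEquivOver h𝒳
  exact ⟨G, strictEval 𝒳, ⟨c⟩, ⟨u⟩⟩

theorem strict_isGroupoid (h : IsFibGrpd 𝒳.p) (U : Cᵒᵖ) : IsGroupoid ((strict 𝒳).obj U) := by
  refine ⟨fun {A B} θ => ?_⟩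
  haveI := isIso_of_vert h θ.2
  exact ⟨⟨inv θ.1, θ.2.of_inv (IsIso.hom_inv_id _)⟩, Subtype.ext (IsIso.hom_inv_id _), Subtype.ext (IsIso.inv_hom_id _)⟩

end Groth.Agent.LeadFibCat
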